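import Mathlib

set_option autoImplicit false

/-!
Elementary facts on automorphisms of a finite group of class at most two whose order is prime to
the order of the group.  (Part of the proof of `l_p ≤ 2 e_p`, Hall–Higman.)
-/

namespace Cfsg.Agent.Helper9.RP

variable {Q : Type*} [Group Q]

theorem conj_apply (t a : MulAut Q) (g : Q) : (t * a * t⁻¹) g = t (a (t⁻¹ g)) := rfl

theorem inv_apply_apply (t : MulAut Q) (g : Q) : t⁻¹ (t g) = g := by
  rw [← MulAut.mul_apply, inv_mul_cancel, MulAut.one_apply]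

theorem apply_inv_apply (t : MulAut Q) (g : Q) : t (t⁻¹ g) = g := by
  rw [← MulAut.mul_apply, mul_inv_cancel, MulAut.one_apply]

theorem pow_apply_of_fix (a : MulAut Q) (g : Q) (h : a g = g) (k : ℕ) : (a ^ k) g = g := by
  induction k with
  | zero => rfl
  | succ k ih => rw [pow_succ, MulAut.mul_apply, h, ih]

/-- an automorphism preserves the centre -/
theorem apply_mem_center (a : MulAut Q) {z : Q} (hz : z ∈ Subgroup.center Q) :
    a z ∈ Subgroup.center Q := by
  rw [Subgroup.mem_center_iff] at hz ⊢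
  intro g
  have h1 := hz (a⁻¹ g)
  have h2 := congrArg a h1
  rw [map_mul, map_mul, apply_inv_apply] at h2
  exact h2

/-- lifting fixed points through a pointwise fixed subgroup: if `a g = g * z` with `a z = z` and the
order of `a` is prime to the order of the group then `z = 1`. -/
theorem eq_one_of_apply_eq_mul [Finite Q] (a : MulAut Q) (m : ℕ) (ham : a ^ m = 1)
    (hm : m.Coprime (Nat.card Q)) (g z : Q) (hz : a z = z) (hg : a g = g * z) : z = 1 := by
  have h1 : ∀ j : ℕ, (a ^ j) g = g * z ^ j := by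
    intro j
    induction j with
    | zero => simp
    | succ j ih =>
      rw [pow_succ', MulAut.mul_apply, ih, map_mul, map_pow, hz, hg, pow_succ', mul_assoc]
  have h2 := h1 m
  rw [ham, MulAut.one_apply] at h2
  have h3 : z ^ m = 1 := by
    have := h2.symm
    rwa [mul_eq_left] at this
  have h4 : z ^ Nat.card Q = 1 := pow_card_eq_one'
  have h5 : orderOf z ∣ Nat.gcd m (Nat.card Q) :=
    Nat.dvd_gcd (orderOf_dvd_of_pow_eq_one h3) (orderOf_dvd_of_pow_eq_one h4)
  rw [hm] at h5
  exact orderOf_eq_one_iff.1 (Nat.dvd_one.1 h5)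

/-- the same with the factor on the left -/
theorem eq_one_of_apply_eq_mul' [Finite Q] (a : MulAut Q) (m : ℕ) (ham : a ^ m = 1)
    (hm : m.Coprime (Nat.card Q)) (g z : Q) (hz : a z = z) (hzc : z ∈ Subgroup.center Q)
    (hg : a g = z * g) : z = 1 := by
  apply eq_one_of_apply_eq_mul a m ham hm g z hz
  rw [hg]
  exact (Subgroup.mem_center_iff.1 hzc g).symm

/-- in a group of class two, a fixed point of `a` commutes with every `a h * h⁻¹`, provided that `a`
fixes the centre pointwise -/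
theorem commute_of_fix (hcls : ∀ g h : Q, g * h * g⁻¹ * h⁻¹ ∈ Subgroup.center Q)
    (a : MulAut Q) (hafix : ∀ z ∈ Subgroup.center Q, a z = z) (g : Q) (hg : a g = g) (h : Q) :
    g * (a h * h⁻¹) = (a h * h⁻¹) * g := by
  obtain ⟨c, hc⟩ : ∃ c, c = g * h * g⁻¹ * h⁻¹ := ⟨_, rfl⟩
  have hcZ : c ∈ Subgroup.center Q := by rw [hc]; exact hcls g h
  have hcc : ∀ k : Q, c * k = k * c := fun k => (Subgroup.mem_center_iff.1 hcZ k).symm
  have h1 : a c = c := hafix c hcZ
  have h2 : g * a h * g⁻¹ * (a h)⁻¹ = c := by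
    have := h1
    rw [hc, map_mul, map_mul, map_mul, map_inv, map_inv, hg] at this
    rw [this, hc]
  have e1 : g * a h = c * (a h * g) := by
    rw [← h2]; group
  have e2 : g * h⁻¹ = c⁻¹ * (h⁻¹ * g) := by
    have e3 : g * h = c * h * g := by rw [hc]; group
    have e4 : h⁻¹ * g = c * (g * h⁻¹) := by
      calc h⁻¹ * g = h⁻¹ * (g * h) * h⁻¹ := by group
        _ = h⁻¹ * (c * h * g) * h⁻¹ := by rw [e3]
        _ = (h⁻¹ * c) * h * g * h⁻¹ := by group
        _ = (c * h⁻¹) * h * g * h⁻¹ := by rw [hcc]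
        _ = c * (g * h⁻¹) := by group
    rw [e4]; group
  calc g * (a h * h⁻¹) = (g * a h) * h⁻¹ := by group
    _ = c * (a h * g) * h⁻¹ := by rw [e1]
    _ = c * a h * (g * h⁻¹) := by group
    _ = c * a h * (c⁻¹ * (h⁻¹ * g)) := by rw [e2]
    _ = (c * a h) * c⁻¹ * (h⁻¹ * g) := by group
    _ = (a h * c) * c⁻¹ * (h⁻¹ * g) := by rw [hcc]
    _ = (a h * h⁻¹) * g := by group

/-- the pointwise stabiliser of a subgroup in a group of automorphisms -/
def pstab (A : Subgroup (MulAut Q)) (X : Subgroup Q) : Subgroup (MulAut Q) where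
  carrier := {a | a ∈ A ∧ ∀ g ∈ X, a g = g}
  one_mem' := ⟨A.one_mem, fun g _ => rfl⟩
  mul_mem' := by
    rintro a b ⟨ha, ha'⟩ ⟨hb, hb'⟩
    refine ⟨A.mul_mem ha hb, fun g hg => ?_⟩
    rw [MulAut.mul_apply, hb' g hg, ha' g hg]
  inv_mem' := by
    rintro a ⟨ha, ha'⟩
    refine ⟨A.inv_mem ha, fun g hg => ?_⟩
    have := ha' g hg
    calc a⁻¹ g = a⁻¹ (a g) := by rw [this]
      _ = g := inv_apply_apply a g

theorem mem_pstab {A : Subgroup (MulAut Q)} {X : Subgroup Q} {a : MulAut Q} :
    a ∈ pstab A X ↔ a ∈ A ∧ ∀ g ∈ X, a g = g := Iff.rfl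

theorem pstab_le (A : Subgroup (MulAut Q)) (X : Subgroup Q) : pstab A X ≤ A := fun _ h => h.1

/-- the image of a subgroup under an automorphism -/
def img (t : MulAut Q) (X : Subgroup Q) : Subgroup Q := X.map t.toMonoidHom

theorem mem_img {t : MulAut Q} {X : Subgroup Q} {g : Q} : g ∈ img t X ↔ t⁻¹ g ∈ X := by
  unfold img
  constructor
  · rintro ⟨h, hh, rfl⟩
    show t⁻¹ (t h) ∈ X
    rw [inv_apply_apply]; exact hh
  · intro h
    exact ⟨t⁻¹ g, h, apply_inv_apply t g⟩

theorem apply_mem_img {t : MulAut Q} {X : Subgroup Q} {g : Q} (hg : g ∈ X) : t g ∈ img t X := by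
  rw [mem_img, inv_apply_apply]; exact hg

theorem card_img [Finite Q] (t : MulAut Q) (X : Subgroup Q) : Nat.card (img t X) = Nat.card X := by
  unfold img
  exact (Nat.card_congr (X.equivMapOfInjective t.toMonoidHom t.injective).toEquiv).symm

/-- the pointwise stabiliser of the image is the conjugate of the pointwise stabiliser -/
theorem mem_pstab_img {A : Subgroup (MulAut Q)} {X : Subgroup Q} {t a : MulAut Q}
    (hA : ∀ b ∈ A, t⁻¹ * b * t ∈ A) (hA' : ∀ b ∈ A, t * b * t⁻¹ ∈ A) :
    a ∈ pstab A (img t X) ↔ t⁻¹ * a * t ∈ pstab A X := by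
  rw [mem_pstab, mem_pstab]
  constructor
  · rintro ⟨ha, hfix⟩
    refine ⟨hA a ha, fun g hg => ?_⟩
    rw [MulAut.mul_apply, MulAut.mul_apply, hfix _ (apply_mem_img hg), inv_apply_apply]
  · rintro ⟨ha, hfix⟩
    refine ⟨?_, fun g hg => ?_⟩
    · have := hA' _ ha
      have e : t * (t⁻¹ * a * t) * t⁻¹ = a := by group
      rwa [e] at this
    · rw [mem_img] at hg
      have := hfix _ hg
      rw [MulAut.mul_apply, MulAut.mul_apply, apply_inv_apply] at this
      have h2 := congrArg t this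
      rwa [apply_inv_apply, apply_inv_apply] at h2

end Cfsg.Agent.Helper9.RP
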