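import Mathlib
import Cfsg.Agent.Helper9.RP.RPAut

set_option autoImplicit false

/-!
Minimal invariant subgroups over the centre and their pointwise stabilisers ("kernels").
-/

namespace Cfsg.Agent.Helper9.RP

variable {Q : Type*} [Group Q]

/-- `X` is invariant under the group `A` of automorphisms -/
def Inv (A : Subgroup (MulAut Q)) (X : Subgroup Q) : Prop := ∀ a ∈ A, ∀ g ∈ X, a g ∈ X

/-- `X` is minimal among the `A`-invariant subgroups properly containing the centre -/
def IsMinInv (A : Subgroup (MulAut Q)) (X : Subgroup Q) : Prop :=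
  Subgroup.center Q ≤ X ∧ (∃ g ∈ X, g ∉ Subgroup.center Q) ∧ Inv A X ∧
  ∀ M : Subgroup Q, Subgroup.center Q ≤ M → M ≤ X → Inv A M → M = Subgroup.center Q ∨ M = X

theorem Inv.img {A : Subgroup (MulAut Q)} {X : Subgroup Q} (h : Inv A X) (t : MulAut Q)
    (hA : ∀ b ∈ A, t⁻¹ * b * t ∈ A) : Inv A (img t X) := by
  intro a ha g hg
  rw [mem_img] at hg ⊢
  have := h _ (hA a ha) _ hg
  rw [MulAut.mul_apply, MulAut.mul_apply, apply_inv_apply] at this
  exact this

theorem img_center (t : MulAut Q) : img t (Subgroup.center Q) = Subgroup.center Q := by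
  ext g
  rw [mem_img]
  constructor
  · intro h
    have := apply_mem_center t h
    rwa [apply_inv_apply] at this
  · intro h
    exact apply_mem_center t⁻¹ h

theorem img_mono (t : MulAut Q) {X Y : Subgroup Q} (h : X ≤ Y) : img t X ≤ img t Y :=
  Subgroup.map_mono h

theorem img_img (s t : MulAut Q) (X : Subgroup Q) : img s (img t X) = img (s * t) X := by
  ext g
  rw [mem_img, mem_img, mem_img, mul_inv_rev, MulAut.mul_apply]

theorem img_one (X : Subgroup Q) : img (1 : MulAut Q) X = X := by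
  ext g
  rw [mem_img, inv_one, MulAut.one_apply]

theorem IsMinInv.img {A : Subgroup (MulAut Q)} {X : Subgroup Q} (h : IsMinInv A X) (t : MulAut Q)
    (hA : ∀ b ∈ A, t⁻¹ * b * t ∈ A) (hA' : ∀ b ∈ A, t * b * t⁻¹ ∈ A) :
    IsMinInv A (img t X) := by
  obtain ⟨h1, ⟨g, hg, hgZ⟩, h3, h4⟩ := h
  refine ⟨?_, ⟨t g, apply_mem_img hg, ?_⟩, h3.img t hA, ?_⟩
  · rw [← img_center t]; exact img_mono t h1
  · intro hc
    apply hgZ
    have := apply_mem_center t⁻¹ hc
    rwa [inv_apply_apply] at this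
  · intro M hZM hMX hM
    have hM' : Inv A (RP.img t⁻¹ M) := by
      apply hM.img t⁻¹
      intro b hb
      rw [inv_inv]; exact hA' b hb
    have h5 : Subgroup.center Q ≤ RP.img t⁻¹ M := by
      rw [← img_center t⁻¹]; exact img_mono _ hZM
    have h6 : RP.img t⁻¹ M ≤ X := by
      have := img_mono t⁻¹ hMX
      rwa [img_img, inv_mul_cancel, img_one] at this
    rcases h4 _ h5 h6 hM' with h7 | h7
    · left
      have := congrArg (RP.img t) h7
      rwa [img_img, mul_inv_cancel, img_one, img_center] at this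
    · right
      have := congrArg (RP.img t) h7
      rwa [img_img, mul_inv_cancel, img_one] at this

/-- (K2a): an element of `A` outside the pointwise stabiliser of `X` has no fixed points on `X`
outside the centre -/
theorem IsMinInv.fix_mem_center {A : Subgroup (MulAut Q)} {X : Subgroup Q} (h : IsMinInv A X)
    (hAab : ∀ a ∈ A, ∀ b ∈ A, a * b = b * a)
    (hAZ : ∀ a ∈ A, ∀ z ∈ Subgroup.center Q, a z = z)
    {a : MulAut Q} (ha : a ∈ A) (haK : a ∉ pstab A X) {g : Q} (hg : g ∈ X) (hag : a g = g) :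
    g ∈ Subgroup.center Q := by
  obtain ⟨h1, -, h3, h4⟩ := h
  obtain ⟨M, hM⟩ : ∃ M : Subgroup Q, ∀ x, x ∈ M ↔
      ∃ f ∈ X, a f = f ∧ ∃ z ∈ Subgroup.center Q, x = f * z := by
    refine ⟨{ carrier := {x | ∃ f ∈ X, a f = f ∧ ∃ z ∈ Subgroup.center Q, x = f * z}
              mul_mem' := ?_
              one_mem' := ?_
              inv_mem' := ?_ }, fun x => Iff.rfl⟩
    · rintro x y ⟨f, hf, haf, z, hz, rfl⟩ ⟨f', hf', haf', z', hz', rfl⟩
      refine ⟨f * f', X.mul_mem hf hf', by rw [map_mul, haf, haf'], z * z',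
        (Subgroup.center Q).mul_mem hz hz', ?_⟩
      have := Subgroup.mem_center_iff.1 hz f'
      calc f * z * (f' * z') = f * (z * f') * z' := by group
        _ = f * (f' * z) * z' := by rw [← this]
        _ = f * f' * (z * z') := by group
    · exact ⟨1, X.one_mem, map_one a, 1, (Subgroup.center Q).one_mem, by simp⟩
    · rintro x ⟨f, hf, haf, z, hz, rfl⟩
      refine ⟨f⁻¹, X.inv_mem hf, by rw [map_inv, haf], z⁻¹, (Subgroup.center Q).inv_mem hz, ?_⟩
      have := Subgroup.mem_center_iff.1 ((Subgroup.center Q).inv_mem hz) f⁻¹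
      rw [mul_inv_rev, this]
  have hZM : Subgroup.center Q ≤ M := by
    intro z hz
    rw [hM]
    exact ⟨1, X.one_mem, map_one a, z, hz, by simp⟩
  have hMX : M ≤ X := by
    intro x hx
    rw [hM] at hx
    obtain ⟨f, hf, -, z, hz, rfl⟩ := hx
    exact X.mul_mem hf (h1 hz)
  have hMinv : Inv A M := by
    intro b hb x hx
    rw [hM] at hx ⊢
    obtain ⟨f, hf, haf, z, hz, rfl⟩ := hx
    refine ⟨b f, h3 b hb f hf, ?_, b z, apply_mem_center b hz, map_mul b f z⟩
    have := hAab a ha b hb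
    calc a (b f) = (a * b) f := rfl
      _ = (b * a) f := by rw [this]
      _ = b (a f) := rfl
      _ = b f := by rw [haf]
  rcases h4 M hZM hMX hMinv with h5 | h5
  · rw [← h5, hM]
    exact ⟨g, hg, hag, 1, (Subgroup.center Q).one_mem, by simp⟩
  · exfalso
    apply haK
    rw [mem_pstab]
    refine ⟨ha, fun x hx => ?_⟩
    rw [← h5, hM] at hx
    obtain ⟨f, -, haf, z, hz, rfl⟩ := hx
    rw [map_mul, haf, hAZ a ha z hz]

/-- (K3): two minimal invariant subgroups with different pointwise stabilisers commute -/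
theorem IsMinInv.commute [Finite Q] {A : Subgroup (MulAut Q)} {X X' : Subgroup Q}
    (hX : IsMinInv A X) (hX' : IsMinInv A X')
    (hcls : ∀ g h : Q, g * h * g⁻¹ * h⁻¹ ∈ Subgroup.center Q)
    (hAZ : ∀ a ∈ A, ∀ z ∈ Subgroup.center Q, a z = z)
    {p : ℕ} (hAp : IsPGroup p A) (hcop : (Nat.card Q).Coprime p)
    {a : MulAut Q} (ha : a ∈ A) (haK : a ∈ pstab A X) (haK' : a ∉ pstab A X')
    {g g' : Q} (hg : g ∈ X) (hg' : g' ∈ X') : g * g' = g' * g := by
  obtain ⟨h1, -, h3, -⟩ := hX
  obtain ⟨h1', -, h3', h4'⟩ := hX'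
  obtain ⟨M, hM⟩ : ∃ M : Subgroup Q, M = X' ⊓ Subgroup.centralizer (X : Set Q) := ⟨_, rfl⟩
  have hZM : Subgroup.center Q ≤ M := by
    rw [hM]
    refine le_inf h1' ?_
    intro z hz
    rw [Subgroup.mem_centralizer_iff]
    intro x _
    exact Subgroup.mem_center_iff.1 hz x
  have hMX : M ≤ X' := by rw [hM]; exact inf_le_left
  have hMinv : Inv A M := by
    intro b hb x hx
    rw [hM, Subgroup.mem_inf] at hx ⊢
    refine ⟨h3' b hb x hx.1, ?_⟩
    rw [Subgroup.mem_centralizer_iff]
    intro y hy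
    have hy' : b⁻¹ y ∈ X := h3 b⁻¹ (A.inv_mem hb) y hy
    have h5 := (Subgroup.mem_centralizer_iff.1 hx.2) _ hy'
    have h6 := congrArg b h5
    rwa [map_mul, map_mul, apply_inv_apply] at h6
  rcases h4' M hZM hMX hMinv with h5 | h5
  · exfalso
    -- some `a h * h⁻¹` with `h ∈ X'` is not central
    have h6 : ∃ h ∈ X', a h * h⁻¹ ∉ Subgroup.center Q := by
      by_contra hcon
      push Not at hcon
      apply haK'
      rw [mem_pstab]
      refine ⟨ha, fun h hh => ?_⟩
      have hz := hcon h hh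
      obtain ⟨k, hk⟩ := hAp ⟨a, ha⟩
      have hak : a ^ p ^ k = 1 := congrArg Subtype.val hk
      have h7 := eq_one_of_apply_eq_mul' a (p ^ k) hak
        (Nat.Coprime.pow_left k hcop.symm) h (a h * h⁻¹) (hAZ a ha _ hz) hz (by group)
      rwa [mul_inv_eq_one] at h7
    obtain ⟨h, hh, hhZ⟩ := h6
    apply hhZ
    rw [← h5, hM, Subgroup.mem_inf]
    refine ⟨X'.mul_mem (h3' a ha h hh) (X'.inv_mem hh), ?_⟩
    rw [Subgroup.mem_centralizer_iff]
    intro x hx
    exact commute_of_fix hcls a (hAZ a ha) x ((mem_pstab.1 haK).2 x hx) h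
  · have : g' ∈ M := by rw [h5]; exact hg'
    rw [hM, Subgroup.mem_inf] at this
    exact (Subgroup.mem_centralizer_iff.1 this.2) g hg

end Cfsg.Agent.Helper9.RP
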