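import Mathlib

set_option autoImplicit false

/-!
A normal subgroup of a finite `p`-group strictly above another one contains an element that is
central modulo the smaller one.
-/

namespace Cfsg.Agent.Helper9.RP

theorem exists_central_mod_type {G : Type*} [Group G] [Finite G] {p : ℕ} [hp : Fact p.Prime]
    (hG : IsPGroup p G) (A C : Subgroup G) [hC : C.Normal] (hex : ∃ c ∈ C, c ∉ A) :
    ∃ c ∈ C, c ∉ A ∧ ∀ t : G, c * t * c⁻¹ * t⁻¹ ∈ A := by
  classical
  have : Group.IsNilpotent G := hG.isNilpotent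
  obtain ⟨n, hn⟩ := Group.IsNilpotent.nilpotent G
  have hP : ∃ i, ∃ c ∈ C, c ∉ A ∧ c ∈ Subgroup.upperCentralSeries G i := by
    obtain ⟨c, hc, hcA⟩ := hex
    exact ⟨n, c, hc, hcA, by rw [hn]; exact Subgroup.mem_top c⟩
  obtain ⟨c, hc, hcA, hci⟩ := Nat.find_spec hP
  have hmin := fun k (hk : k < Nat.find hP) => Nat.find_min hP hk
  rcases Nat.eq_zero_or_pos (Nat.find hP) with h0 | hpos
  · exfalso
    rw [h0, Subgroup.upperCentralSeries_zero, Subgroup.mem_bot] at hci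
    apply hcA
    rw [hci]; exact A.one_mem
  · obtain ⟨k, hk⟩ : ∃ k, Nat.find hP = k + 1 := ⟨Nat.find hP - 1, by omega⟩
    rw [hk, Subgroup.mem_upperCentralSeries_succ_iff] at hci
    refine ⟨c, hc, hcA, fun t => ?_⟩
    by_contra hnot
    apply hmin k (by omega)
    refine ⟨c * t * c⁻¹ * t⁻¹, ?_, hnot, hci t⟩
    have h1 : t * c⁻¹ * t⁻¹ ∈ C := hC.conj_mem _ (C.inv_mem hc) t
    have e : c * t * c⁻¹ * t⁻¹ = c * (t * c⁻¹ * t⁻¹) := by group
    rw [e]; exact C.mul_mem hc h1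

/-- subgroup form -/
theorem exists_central_mod {Γ : Type*} [Group Γ] [Finite Γ] {p : ℕ} [hp : Fact p.Prime]
    (T A C : Subgroup Γ) (hT : IsPGroup p T) (hCT : C ≤ T)
    (hCn : ∀ t ∈ T, ∀ c ∈ C, t * c * t⁻¹ ∈ C) (hex : ∃ c ∈ C, c ∉ A) :
    ∃ c ∈ C, c ∉ A ∧ ∀ t ∈ T, c * t * c⁻¹ * t⁻¹ ∈ A := by
  have : (C.subgroupOf T).Normal := by
    constructor
    intro c hc t
    rw [Subgroup.mem_subgroupOf] at hc ⊢
    exact hCn t t.2 c hc
  obtain ⟨c, hc, hcA, hcen⟩ := exists_central_mod_type hT (A.subgroupOf T) (C.subgroupOf T) (by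
    obtain ⟨c, hc, hcA⟩ := hex
    exact ⟨⟨c, hCT hc⟩, by rw [Subgroup.mem_subgroupOf]; exact hc,
      by rw [Subgroup.mem_subgroupOf]; exact hcA⟩)
  rw [Subgroup.mem_subgroupOf] at hc hcA
  refine ⟨c, hc, hcA, fun t ht => ?_⟩
  have := hcen ⟨t, ht⟩
  rw [Subgroup.mem_subgroupOf] at this
  exact this

/-- the closure of a pairwise commuting set is abelian -/
theorem closure_comm {G : Type*} [Group G] (k : Set G) (hk : ∀ x ∈ k, ∀ y ∈ k, x * y = y * x) :
    ∀ a ∈ Subgroup.closure k, ∀ b ∈ Subgroup.closure k, a * b = b * a := by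
  intro a ha b hb
  have := (Subgroup.closureCommGroupOfComm hk).mul_comm ⟨a, ha⟩ ⟨b, hb⟩
  exact congrArg Subtype.val this

end Cfsg.Agent.Helper9.RP
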