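import Mathlib
import Cfsg.Agent.Helper9.RP.RPKer
import Cfsg.Agent.Helper9.RP.RPNil

set_option autoImplicit false

/-!
The configuration of Lemma M: a `p`-group `TT` of automorphisms of a `p'`-group `Q` of class two,
acting irreducibly modulo the centre, with a conjugation invariant set `SS` of elements such that
`σ ^ p ^ (n - 1)` centralises every `σ`-invariant abelian subgroup.
-/

namespace Cfsg.Agent.Helper9.RP

open scoped commutatorElement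

variable {Q : Type*} [Group Q]

/-- the elements `σ ^ p ^ (n - 1)` -/
def YYs (p n : ℕ) (SS : Set (MulAut Q)) : Set (MulAut Q) := (fun σ => σ ^ p ^ (n - 1)) '' SS

/-- the subgroup they generate -/
def DDs (p n : ℕ) (SS : Set (MulAut Q)) : Subgroup (MulAut Q) := Subgroup.closure (YYs p n SS)

structure LM (p n : ℕ) (TT : Subgroup (MulAut Q)) (SS : Set (MulAut Q)) (ζ : MulAut Q) : Prop where
  hp : p.Prime
  hp2 : p ≠ 2
  cop : (Nat.card Q).Coprime p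
  TTp : IsPGroup p TT
  hn : 1 ≤ n
  SSsub : ∀ σ ∈ SS, σ ∈ TT
  SSconj : ∀ t ∈ TT, ∀ σ ∈ SS, t * σ * t⁻¹ ∈ SS
  SSpow : ∀ σ ∈ SS, σ ^ p ^ n = 1
  M1 : ∀ σ ∈ SS, ∀ Q₀ : Subgroup Q, (∀ g ∈ Q₀, ∀ h ∈ Q₀, g * h = h * g) →
    (∀ g ∈ Q₀, σ g ∈ Q₀) → ∀ g ∈ Q₀, (σ ^ p ^ (n - 1)) g = g
  ζTT : ζ ∈ TT
  ζc : ∀ t ∈ TT, t * ζ = ζ * t
  ζD : ζ ∈ ⁅DDs p n SS, DDs p n SS⁆
  ζ1 : ζ ≠ 1
  fixζ : ∀ g, ζ g = g → g ∈ Subgroup.center Q
  cls : ∀ g h : Q, g * h * g⁻¹ * h⁻¹ ∈ Subgroup.center Q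
  irr : ∀ M : Subgroup Q, (∀ t ∈ TT, ∀ g ∈ M, t g ∈ M) → M ≠ ⊤ → M ≤ Subgroup.center Q

namespace LM

variable {p n : ℕ} {TT : Subgroup (MulAut Q)} {SS : Set (MulAut Q)} {ζ : MulAut Q}

theorem YY_sub (h : LM p n TT SS ζ) : ∀ τ ∈ YYs p n SS, τ ∈ TT := by
  rintro τ ⟨σ, hσ, rfl⟩
  exact TT.pow_mem (h.SSsub σ hσ) _

theorem YY_conj (h : LM p n TT SS ζ) : ∀ t ∈ TT, ∀ τ ∈ YYs p n SS, t * τ * t⁻¹ ∈ YYs p n SS := by
  rintro t ht τ ⟨σ, hσ, rfl⟩
  refine ⟨t * σ * t⁻¹, h.SSconj t ht σ hσ, ?_⟩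
  show (t * σ * t⁻¹) ^ p ^ (n - 1) = t * σ ^ p ^ (n - 1) * t⁻¹
  exact conj_pow

theorem YY_pow (h : LM p n TT SS ζ) : ∀ τ ∈ YYs p n SS, τ ^ p = 1 := by
  rintro τ ⟨σ, hσ, rfl⟩
  show (σ ^ p ^ (n - 1)) ^ p = 1
  rw [← pow_mul, ← pow_succ, Nat.sub_add_cancel h.hn]
  exact h.SSpow σ hσ

theorem DD_le (h : LM p n TT SS ζ) : DDs p n SS ≤ TT :=
  (Subgroup.closure_le _).2 h.YY_sub

theorem DD_conj (h : LM p n TT SS ζ) : ∀ t ∈ TT, ∀ d ∈ DDs p n SS, t * d * t⁻¹ ∈ DDs p n SS := by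
  intro t ht d hd
  unfold DDs at hd ⊢
  induction hd using Subgroup.closure_induction with
  | mem x hx => exact Subgroup.subset_closure (h.YY_conj t ht x hx)
  | one => simp
  | mul x y _ _ hx hy =>
    have e : t * (x * y) * t⁻¹ = (t * x * t⁻¹) * (t * y * t⁻¹) := by group
    rw [e]; exact Subgroup.mul_mem _ hx hy
  | inv x _ hx =>
    have e : t * x⁻¹ * t⁻¹ = (t * x * t⁻¹)⁻¹ := by group
    rw [e]; exact Subgroup.inv_mem _ hx

/-- every element of `DD` fixes the centre pointwise -/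
theorem DD_fix_center (h : LM p n TT SS ζ) :
    ∀ d ∈ DDs p n SS, ∀ z ∈ Subgroup.center Q, d z = z := by
  intro d hd
  unfold DDs at hd
  induction hd using Subgroup.closure_induction with
  | mem x hx =>
    obtain ⟨σ, hσ, rfl⟩ := hx
    intro z hz
    apply h.M1 σ hσ (Subgroup.center Q) _ _ z hz
    · intro g hg k _
      exact (Subgroup.mem_center_iff.1 hg k).symm
    · intro g hg
      exact apply_mem_center σ hg
  | one => intro z _; rfl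
  | mul x y _ _ hx hy =>
    intro z hz
    rw [MulAut.mul_apply, hy z hz, hx z hz]
  | inv x _ hx =>
    intro z hz
    have := hx z hz
    calc x⁻¹ z = x⁻¹ (x z) := by rw [this]
      _ = z := inv_apply_apply x z

theorem center_ne_top (h : LM p n TT SS ζ) : Subgroup.center Q ≠ ⊤ := by
  intro htop
  -- then `Q` is abelian and `M1` kills `DD`
  have hab : ∀ g ∈ (⊤ : Subgroup Q), ∀ k ∈ (⊤ : Subgroup Q), g * k = k * g := by
    intro g _ k _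
    have : g ∈ Subgroup.center Q := by rw [htop]; exact Subgroup.mem_top g
    exact (Subgroup.mem_center_iff.1 this k).symm
  have hD : DDs p n SS = ⊥ := by
    rw [eq_bot_iff]
    unfold DDs
    rw [Subgroup.closure_le]
    rintro τ ⟨σ, hσ, rfl⟩
    rw [SetLike.mem_coe, Subgroup.mem_bot]
    apply MulEquiv.ext
    intro g
    exact h.M1 σ hσ ⊤ hab (fun g _ => Subgroup.mem_top _) g (Subgroup.mem_top g)
  have := h.ζD
  rw [hD, Subgroup.commutator_bot_left, Subgroup.mem_bot] at this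
  exact h.ζ1 this

theorem ζ_mem_DD (h : LM p n TT SS ζ) : ζ ∈ DDs p n SS := by
  have h1 : ⁅DDs p n SS, DDs p n SS⁆ ≤ DDs p n SS := by
    rw [Subgroup.commutator_le]
    intro a ha b hb
    rw [commutatorElement_def]
    exact Subgroup.mul_mem _ (Subgroup.mul_mem _ (Subgroup.mul_mem _ ha hb)
      (Subgroup.inv_mem _ ha)) (Subgroup.inv_mem _ hb)
  exact h1 h.ζD

/-- a maximal `TT`-invariant abelian subgroup of `DD` is self-centralising in `DD` -/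
theorem exists_AA [Finite Q] (h : LM p n TT SS ζ) :
    ∃ AA : Subgroup (MulAut Q), AA ≤ DDs p n SS ∧ (∀ a ∈ AA, ∀ b ∈ AA, a * b = b * a) ∧
      (∀ t ∈ TT, ∀ a ∈ AA, t * a * t⁻¹ ∈ AA) ∧
      (∀ d ∈ DDs p n SS, (∀ a ∈ AA, d * a = a * d) → d ∈ AA) := by
  classical
  have : Fact p.Prime := ⟨h.hp⟩
  obtain ⟨S, hS⟩ : ∃ S : Set (Subgroup (MulAut Q)), S = {A | A ≤ DDs p n SS ∧
      (∀ a ∈ A, ∀ b ∈ A, a * b = b * a) ∧ (∀ t ∈ TT, ∀ a ∈ A, t * a * t⁻¹ ∈ A)} := ⟨_, rfl⟩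
  have hfin : S.Finite := Set.toFinite _
  have hbot : (⊥ : Subgroup (MulAut Q)) ∈ S := by
    rw [hS]
    refine ⟨bot_le, ?_, ?_⟩
    · intro a ha b hb
      rw [Subgroup.mem_bot] at ha hb
      rw [ha, hb]
    · intro t _ a ha
      rw [Subgroup.mem_bot] at ha ⊢
      rw [ha]; group
  obtain ⟨AA, -, hmax⟩ := hfin.exists_le_maximal hbot
  obtain ⟨hAAS, hmax'⟩ := hmax
  rw [hS] at hAAS
  obtain ⟨hAD, hAab, hAn⟩ := hAAS
  refine ⟨AA, hAD, hAab, hAn, ?_⟩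
  intro d hd hdc
  by_contra hdA
  -- the centraliser of `AA` in `DD`
  obtain ⟨CC, hCC⟩ : ∃ CC : Subgroup (MulAut Q),
      CC = DDs p n SS ⊓ Subgroup.centralizer (AA : Set (MulAut Q)) := ⟨_, rfl⟩
  have hCCmem : ∀ c, c ∈ CC ↔ c ∈ DDs p n SS ∧ ∀ a ∈ AA, c * a = a * c := by
    intro c
    rw [hCC, Subgroup.mem_inf, Subgroup.mem_centralizer_iff]
    constructor
    · rintro ⟨h1, h2⟩
      exact ⟨h1, fun a ha => (h2 a ha).symm⟩
    · rintro ⟨h1, h2⟩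
      exact ⟨h1, fun a ha => (h2 a ha).symm⟩
  have hCCT : CC ≤ TT := fun c hc => h.DD_le ((hCCmem c).1 hc).1
  have hCCn : ∀ t ∈ TT, ∀ c ∈ CC, t * c * t⁻¹ ∈ CC := by
    intro t ht c hc
    rw [hCCmem] at hc ⊢
    refine ⟨h.DD_conj t ht c hc.1, fun a ha => ?_⟩
    have ha' : t⁻¹ * a * t ∈ AA := by
      have := hAn t⁻¹ (TT.inv_mem ht) a ha
      rwa [inv_inv] at this
    have := hc.2 _ ha'
    calc t * c * t⁻¹ * a = t * (c * (t⁻¹ * a * t)) * t⁻¹ := by group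
      _ = t * ((t⁻¹ * a * t) * c) * t⁻¹ := by rw [this]
      _ = a * (t * c * t⁻¹) := by group
  obtain ⟨c, hc, hcA, hcen⟩ := exists_central_mod TT AA CC h.TTp hCCT hCCn
    ⟨d, (hCCmem d).2 ⟨hd, hdc⟩, hdA⟩
  rw [hCCmem] at hc
  -- the bigger subgroup
  obtain ⟨A₁, hA₁⟩ : ∃ A₁ : Subgroup (MulAut Q), A₁ = AA ⊔ Subgroup.zpowers c := ⟨_, rfl⟩
  have hcA₁ : c ∈ A₁ := by
    rw [hA₁]; exact Subgroup.mem_sup_right (Subgroup.mem_zpowers c)
  have hAA₁ : AA ≤ A₁ := by rw [hA₁]; exact le_sup_left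
  have hA₁cl : A₁ = Subgroup.closure ((AA : Set (MulAut Q)) ∪ {c}) := by
    rw [hA₁, Subgroup.closure_union, Subgroup.closure_eq, Subgroup.zpowers_eq_closure]
  have hgencomm : ∀ x ∈ ((AA : Set (MulAut Q)) ∪ {c}), ∀ y ∈ ((AA : Set (MulAut Q)) ∪ {c}),
      x * y = y * x := by
    rintro x (hx | hx) y (hy | hy)
    · exact hAab x hx y hy
    · rw [Set.mem_singleton_iff] at hy; subst hy
      exact (hc.2 x hx).symm
    · rw [Set.mem_singleton_iff] at hx; subst hx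
      exact hc.2 y hy
    · rw [Set.mem_singleton_iff] at hx hy; subst hx; subst hy; rfl
  have hA₁ab : ∀ a ∈ A₁, ∀ b ∈ A₁, a * b = b * a := by
    rw [hA₁cl]
    exact closure_comm _ hgencomm
  have hA₁D : A₁ ≤ DDs p n SS := by
    rw [hA₁]
    exact sup_le hAD ((Subgroup.zpowers_le).2 hc.1)
  have hA₁n : ∀ t ∈ TT, ∀ a ∈ A₁, t * a * t⁻¹ ∈ A₁ := by
    intro t ht a ha
    rw [hA₁cl] at ha
    induction ha using Subgroup.closure_induction with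
    | mem x hx =>
      rcases hx with hx | hx
      · exact hAA₁ (hAn t ht x hx)
      · rw [Set.mem_singleton_iff] at hx; subst hx
        -- `t x t⁻¹ = (x t⁻¹ x⁻¹ t)⁻¹ x`
        have h1 := hcen t ht
        have e : t * x * t⁻¹ = (x * t * x⁻¹ * t⁻¹)⁻¹ * x := by group
        rw [e]
        exact A₁.mul_mem (A₁.inv_mem (hAA₁ h1)) hcA₁
    | one => simp [A₁.one_mem]
    | mul x y _ _ hx hy =>
      have e : t * (x * y) * t⁻¹ = (t * x * t⁻¹) * (t * y * t⁻¹) := by group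
      rw [e]; exact A₁.mul_mem hx hy
    | inv x _ hx =>
      have e : t * x⁻¹ * t⁻¹ = (t * x * t⁻¹)⁻¹ := by group
      rw [e]; exact A₁.inv_mem hx
  have hA₁S : A₁ ∈ S := by
    rw [hS]; exact ⟨hA₁D, hA₁ab, hA₁n⟩
  have := hmax' hA₁S hAA₁
  exact hcA (this hcA₁)

end LM

end Cfsg.Agent.Helper9.RP
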