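import Mathlib
import Cfsg.Agent.Helper9.RP.RPCfg

set_option autoImplicit false

/-!
Lemma M, existence of a minimal invariant subgroup and Case 1: some `τ = σ ^ p ^ (n - 1)` moves a
kernel.
-/

namespace Cfsg.Agent.Helper9.RP

variable {Q : Type*} [Group Q]

/-- in a cyclic group of order dividing `p ^ n`, every nontrivial power has the power `p ^ (n-1)`
among its powers -/
theorem exists_pow_pow_eq' {H : Type*} [Group H] {p : ℕ} (hp : p.Prime) (n : ℕ) (hn : 1 ≤ n) (x : H)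
    (hx : x ^ p ^ n = 1) (i : ℕ) (hi0 : 0 < i) (hi : i < p ^ n) :
    ∃ j : ℕ, (x ^ i) ^ j = x ^ p ^ (n - 1) := by
  obtain ⟨a, u, hu, rfl⟩ := Nat.exists_eq_pow_mul_and_not_dvd hi0.ne' p hp.ne_one
  have ha : a < n := by
    by_contra hcon
    push Not at hcon
    have h1 : p ^ n ≤ p ^ a := Nat.pow_le_pow_right hp.pos hcon
    have h2 : p ^ a ≤ p ^ a * u := Nat.le_mul_of_pos_right _ (Nat.pos_of_ne_zero (by
      rintro rfl; simp at hu))
    omega
  have hcop : Nat.Coprime u p := (Nat.Prime.coprime_iff_not_dvd hp).2 hu |>.symm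
  obtain ⟨w, hw⟩ := Nat.exists_mul_mod_eq_one_of_coprime hcop hp.one_lt
  refine ⟨p ^ (n - 1 - a) * w, ?_⟩
  have h3 : u * w = 1 + p * (u * w / p) := by
    have := Nat.div_add_mod (u * w) p
    omega
  rw [← pow_mul]
  have h4 : p ^ a * u * (p ^ (n - 1 - a) * w) = p ^ (n - 1) + p ^ n * (u * w / p) := by
    have e1 : p ^ a * p ^ (n - 1 - a) = p ^ (n - 1) := by
      rw [← pow_add]; congr 1; omega
    have e2 : p ^ (n - 1) * p = p ^ n := by
      rw [← pow_succ]; congr 1; omega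
    calc p ^ a * u * (p ^ (n - 1 - a) * w) = (p ^ a * p ^ (n - 1 - a)) * (u * w) := by ring
      _ = p ^ (n - 1) * (1 + p * (u * w / p)) := by rw [e1, ← h3]
      _ = p ^ (n - 1) + (p ^ (n - 1) * p) * (u * w / p) := by ring
      _ = p ^ (n - 1) + p ^ n * (u * w / p) := by rw [e2]
  rw [h4, pow_add, pow_mul, hx, one_pow, mul_one]

namespace LM

variable {p n : ℕ} {TT : Subgroup (MulAut Q)} {SS : Set (MulAut Q)} {ζ : MulAut Q}

/-- the data of a maximal invariant abelian subgroup of `DD` -/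
structure HasAA (h : LM p n TT SS ζ) (AA : Subgroup (MulAut Q)) : Prop where
  AD : AA ≤ DDs p n SS
  ab : ∀ a ∈ AA, ∀ b ∈ AA, a * b = b * a
  nor : ∀ t ∈ TT, ∀ a ∈ AA, t * a * t⁻¹ ∈ AA
  cen : ∀ d ∈ DDs p n SS, (∀ a ∈ AA, d * a = a * d) → d ∈ AA

namespace HasAA

variable {h : LM p n TT SS ζ} {AA : Subgroup (MulAut Q)}

theorem nor' (hA : HasAA h AA) : ∀ t ∈ TT, ∀ a ∈ AA, t⁻¹ * a * t ∈ AA := by
  intro t ht a ha
  have := hA.nor t⁻¹ (TT.inv_mem ht) a ha
  rwa [inv_inv] at this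

theorem fixZ (hA : HasAA h AA) : ∀ a ∈ AA, ∀ z ∈ Subgroup.center Q, a z = z :=
  fun a ha => h.DD_fix_center a (hA.AD ha)

theorem isP (hA : HasAA h AA) : IsPGroup p AA :=
  h.TTp.to_le (hA.AD.trans h.DD_le)

/-- existence of a minimal invariant subgroup above the centre -/
theorem exists_minInv [Finite Q] (_hA : HasAA h AA) : ∃ X : Subgroup Q, IsMinInv AA X := by
  obtain ⟨P, hP⟩ : ∃ P : Subgroup Q → Prop, P = fun X => Subgroup.center Q ≤ X ∧
      (∃ g ∈ X, g ∉ Subgroup.center Q) ∧ Inv AA X := ⟨_, rfl⟩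
  have htop : P ⊤ := by
    rw [hP]
    refine ⟨le_top, ?_, fun a _ g _ => Subgroup.mem_top _⟩
    by_contra hcon
    push Not at hcon
    apply h.center_ne_top
    rw [eq_top_iff]
    intro g hg
    exact hcon g hg
  obtain ⟨X, -, hXmin⟩ := exists_minimal_le_of_wellFoundedLT P ⊤ htop
  have hPX : P X := hXmin.prop
  have hmin : ∀ M, P M → M ≤ X → X ≤ M := fun M h1 h2 => hXmin.le_of_le h1 h2
  rw [hP] at hPX hmin
  refine ⟨X, hPX.1, hPX.2.1, hPX.2.2, ?_⟩
  intro M hZM hMX hM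
  by_cases hc : M ≤ Subgroup.center Q
  · left; exact le_antisymm hc hZM
  · right
    apply le_antisymm hMX
    apply hmin M _ hMX
    refine ⟨hZM, ?_, hM⟩
    by_contra hcon
    push Not at hcon
    exact hc hcon

/-- the images under `TT` of a minimal invariant subgroup generate `Q` -/
theorem eq_one_of_fix_imgs [Finite Q] (_hA : HasAA h AA) {X : Subgroup Q} (hX : IsMinInv AA X)
    (a : MulAut Q) (ha : ∀ t ∈ TT, ∀ g ∈ img t X, a g = g) : a = 1 := by
  obtain ⟨M, hM⟩ : ∃ M : Subgroup Q, M = ⨆ t : TT, img (t : MulAut Q) X := ⟨_, rfl⟩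
  have hXM : X ≤ M := by
    rw [hM]
    have := le_iSup (fun t : TT => img (t : MulAut Q) X) 1
    simpa [img_one] using this
  have hMinv : ∀ s ∈ TT, ∀ g ∈ M, s g ∈ M := by
    intro s hs g hg
    have h1 : M.map s.toMonoidHom ≤ M := by
      rw [hM, Subgroup.map_iSup]
      apply iSup_le
      intro t
      have : (img (t : MulAut Q) X).map s.toMonoidHom = img (s * (t : MulAut Q)) X :=
        img_img s t X
      rw [this]
      exact le_iSup (fun t : TT => img (t : MulAut Q) X) ⟨s * (t : MulAut Q), TT.mul_mem hs t.2⟩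
    exact h1 ⟨g, hg, rfl⟩
  have hMtop : M = ⊤ := by
    by_contra hne
    have := h.irr M hMinv hne
    obtain ⟨g, hg, hgZ⟩ := hX.2.1
    exact hgZ (this (hXM hg))
  obtain ⟨F, hF⟩ : ∃ F : Subgroup Q, ∀ g, g ∈ F ↔ a g = g := by
    refine ⟨{ carrier := {g | a g = g}
              mul_mem' := ?_
              one_mem' := map_one a
              inv_mem' := ?_ }, fun g => Iff.rfl⟩
    · intro x y hx hy
      show a (x * y) = x * y
      rw [map_mul, hx, hy]
    · intro x hx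
      show a x⁻¹ = x⁻¹
      rw [map_inv, hx]
  have hMF : M ≤ F := by
    rw [hM]
    apply iSup_le
    intro t g hg
    rw [hF]
    exact ha t t.2 g hg
  apply MulEquiv.ext
  intro g
  have : g ∈ F := hMF (by rw [hMtop]; exact Subgroup.mem_top g)
  exact (hF g).1 this

set_option maxHeartbeats 800000 in
/-- Case 1: no `τ = σ ^ p ^ (n - 1)` moves the pointwise stabiliser of a minimal invariant subgroup -/
theorem case1 [Finite Q] (hA : HasAA h AA) {X : Subgroup Q} (hX : IsMinInv AA X)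
    {σ : MulAut Q} (hσ : σ ∈ SS) {a₀ : MulAut Q} (ha₀ : a₀ ∈ pstab AA X) :
    σ ^ p ^ (n - 1) * a₀ * (σ ^ p ^ (n - 1))⁻¹ ∈ pstab AA X := by
  classical
  by_contra hbad
  have hσT : σ ∈ TT := h.SSsub σ hσ
  have hσpow : σ ^ p ^ n = 1 := h.SSpow σ hσ
  obtain ⟨τ, hτ⟩ : ∃ τ, τ = σ ^ p ^ (n - 1) := ⟨_, rfl⟩
  rw [← hτ] at hbad
  have hpowT : ∀ i : ℕ, σ ^ i ∈ TT := fun i => TT.pow_mem hσT i
  -- Step A
  have hA1 : ∀ d : ℕ, 0 < d → d < p ^ n → ∃ a ∈ pstab AA X, σ ^ d * a * (σ ^ d)⁻¹ ∉ pstab AA X := by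
    intro d hd0 hd
    by_contra hcon
    push Not at hcon
    have h1 : ∀ k : ℕ, ∀ a ∈ pstab AA X, (σ ^ d) ^ k * a * ((σ ^ d) ^ k)⁻¹ ∈ pstab AA X := by
      intro k
      induction k with
      | zero => intro a ha; simpa using ha
      | succ k ih =>
        intro a ha
        have := hcon _ (ih a ha)
        have e : (σ ^ d) ^ (k + 1) * a * ((σ ^ d) ^ (k + 1))⁻¹ =
            σ ^ d * ((σ ^ d) ^ k * a * ((σ ^ d) ^ k)⁻¹) * (σ ^ d)⁻¹ := by
          rw [pow_succ']; group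
        rw [e]; exact this
    obtain ⟨j, hj⟩ := exists_pow_pow_eq' h.hp n h.hn σ hσpow d hd0 hd
    apply hbad
    have := h1 j a₀ ha₀
    rwa [hj, ← hτ] at this
  -- Step B
  have hB0 : ∀ i j : ℕ, i < j → j < p ^ n → ∀ g ∈ X, ∀ g' ∈ X,
      (σ ^ i) g * (σ ^ j) g' = (σ ^ j) g' * (σ ^ i) g := by
    intro i j hij hj g hg g' hg'
    obtain ⟨d, hd⟩ : ∃ d, j = i + d := ⟨j - i, by omega⟩
    obtain ⟨a, ha, hna⟩ := hA1 d (by omega) (by omega)
    have haA : a ∈ AA := pstab_le AA X ha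
    obtain ⟨b, hb⟩ : ∃ b, b = σ ^ j * a * (σ ^ j)⁻¹ := ⟨_, rfl⟩
    have hbA : b ∈ AA := by rw [hb]; exact hA.nor _ (hpowT j) a haA
    have hXi : IsMinInv AA (img (σ ^ i) X) :=
      hX.img _ (hA.nor' _ (hpowT i)) (hA.nor _ (hpowT i))
    have hXj : IsMinInv AA (img (σ ^ j) X) :=
      hX.img _ (hA.nor' _ (hpowT j)) (hA.nor _ (hpowT j))
    have hbj : b ∈ pstab AA (img (σ ^ j) X) := by
      rw [mem_pstab_img (hA.nor' _ (hpowT j)) (hA.nor _ (hpowT j))]
      have e : (σ ^ j)⁻¹ * b * σ ^ j = a := by rw [hb]; group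
      rw [e]; exact ha
    have hbi : b ∉ pstab AA (img (σ ^ i) X) := by
      rw [mem_pstab_img (hA.nor' _ (hpowT i)) (hA.nor _ (hpowT i))]
      have e : (σ ^ i)⁻¹ * b * σ ^ i = σ ^ d * a * (σ ^ d)⁻¹ := by
        rw [hb, hd, pow_add]; group
      rw [e]; exact hna
    exact (hXj.commute hXi h.cls hA.fixZ hA.isP h.cop hbA hbj hbi
      (apply_mem_img hg') (apply_mem_img hg)).symm
  have hB : ∀ i j : ℕ, i < p ^ n → j < p ^ n → i ≠ j → ∀ g ∈ X, ∀ g' ∈ X,
      (σ ^ i) g * (σ ^ j) g' = (σ ^ j) g' * (σ ^ i) g := by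
    intro i j hi hj hij g hg g' hg'
    rcases Nat.lt_or_gt_of_ne hij with hlt | hgt
    · exact hB0 i j hlt hj g hg g' hg'
    · exact (hB0 j i hgt hi g' hg' g hg).symm
  -- reduction of exponents
  have hmod : ∀ i : ℕ, σ ^ i = σ ^ (i % p ^ n) := by
    intro i
    conv_lhs => rw [← Nat.div_add_mod i (p ^ n), pow_add, pow_mul, hσpow, one_pow, one_mul]
  have hppos : 0 < p ^ n := Nat.pos_of_ne_zero (pow_ne_zero _ h.hp.ne_zero)
  -- Step C
  obtain ⟨g, hg, hgZ⟩ := hX.2.1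
  obtain ⟨S₀, hS₀⟩ : ∃ S₀ : Set Q, S₀ = (Subgroup.center Q : Set Q) ∪ {x | ∃ i : ℕ, x = (σ ^ i) g} :=
    ⟨_, rfl⟩
  have hScomm : ∀ x ∈ S₀, ∀ y ∈ S₀, x * y = y * x := by
    rw [hS₀]
    rintro x (hx | ⟨i, rfl⟩) y (hy | ⟨j, rfl⟩)
    · exact (Subgroup.mem_center_iff.1 hx y).symm
    · exact (Subgroup.mem_center_iff.1 hx _).symm
    · exact Subgroup.mem_center_iff.1 hy _
    · rw [hmod i, hmod j]
      by_cases hij : i % p ^ n = j % p ^ n
      · rw [hij]
      · exact hB _ _ (Nat.mod_lt _ hppos) (Nat.mod_lt _ hppos) hij g hg g hg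
  have hQ₀ab := closure_comm S₀ hScomm
  have hQ₀inv : ∀ x ∈ Subgroup.closure S₀, σ x ∈ Subgroup.closure S₀ := by
    intro x hx
    induction hx using Subgroup.closure_induction with
    | mem x hx =>
      apply Subgroup.subset_closure
      rw [hS₀] at hx ⊢
      rcases hx with hx | ⟨i, rfl⟩
      · left; exact apply_mem_center σ hx
      · right
        refine ⟨i + 1, ?_⟩
        rw [pow_succ', MulAut.mul_apply]
    | one => rw [map_one]; exact Subgroup.one_mem _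
    | mul x y _ _ hx hy => rw [map_mul]; exact Subgroup.mul_mem _ hx hy
    | inv x _ hx => rw [map_inv]; exact Subgroup.inv_mem _ hx
  have hgS : g ∈ Subgroup.closure S₀ := by
    apply Subgroup.subset_closure
    rw [hS₀]
    right
    exact ⟨0, by simp⟩
  have hτg : τ g = g := by
    rw [hτ]
    exact h.M1 σ hσ _ hQ₀ab hQ₀inv g hgS
  -- Step D
  have hτT : τ ∈ TT := by rw [hτ]; exact hpowT _
  have ha₀A : a₀ ∈ AA := pstab_le AA X ha₀
  have ha' : τ * a₀ * τ⁻¹ ∈ AA := hA.nor τ hτT a₀ ha₀A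
  have hfix : (τ * a₀ * τ⁻¹) g = g := by
    rw [conj_apply]
    have h1 : τ⁻¹ g = g := by
      calc τ⁻¹ g = τ⁻¹ (τ g) := by rw [hτg]
        _ = g := inv_apply_apply τ g
    rw [h1, (mem_pstab.1 ha₀).2 g hg, hτg]
  exact hgZ (hX.fix_mem_center hA.ab hA.fixZ ha' hbad hg hfix)

end HasAA

end LM

end Cfsg.Agent.Helper9.RP
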