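import Mathlib
import Cfsg.Agent.Helper9.RP.RPCase1
import Cfsg.Agent.Helper1.RPCaseTwoA
import Cfsg.Agent.Helper1.RPCaseTwoC

set_option autoImplicit false

/-!
Lemma M: the configuration `LM` is contradictory.  By Case 1 every `τ ∈ YY` normalises every kernel
`K_t = pstab AA (img t X)`; then helper1's abstract `caseTwo` shows that `DD` is abelian, so
`ζ ∈ ⁅DD, DD⁆` is trivial.
-/

namespace Cfsg.Agent.Helper9.RP

open scoped commutatorElement

variable {Q : Type*} [Group Q]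

namespace LM

variable {p n : ℕ} {TT : Subgroup (MulAut Q)} {SS : Set (MulAut Q)} {ζ : MulAut Q}
variable {h : LM p n TT SS ζ} {AA : Subgroup (MulAut Q)}

/-- every element of `DD` normalises (in both directions) every kernel -/
theorem HasAA.DD_normalizes [Finite Q] (hA : HasAA h AA) {X : Subgroup Q} (hX : IsMinInv AA X) :
    ∀ d ∈ DDs p n SS, (∀ a ∈ pstab AA X, d * a * d⁻¹ ∈ pstab AA X) ∧
      (∀ a ∈ pstab AA X, d⁻¹ * a * d ∈ pstab AA X) := by
  have hstep : ∀ τ ∈ YYs p n SS, ∀ a ∈ pstab AA X, τ * a * τ⁻¹ ∈ pstab AA X := by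
    rintro τ ⟨σ, hσ, rfl⟩ a ha
    exact case1 hA hX hσ ha
  have hpow : ∀ τ ∈ YYs p n SS, ∀ k : ℕ, ∀ a ∈ pstab AA X, τ ^ k * a * (τ ^ k)⁻¹ ∈ pstab AA X := by
    intro τ hτ k
    induction k with
    | zero => intro a ha; simpa using ha
    | succ k ih =>
      intro a ha
      have := hstep τ hτ _ (ih a ha)
      have e : τ ^ (k + 1) * a * (τ ^ (k + 1))⁻¹ = τ * (τ ^ k * a * (τ ^ k)⁻¹) * τ⁻¹ := by
        rw [pow_succ']; group
      rw [e]; exact this
  have hstep' : ∀ τ ∈ YYs p n SS, ∀ a ∈ pstab AA X, τ⁻¹ * a * τ ∈ pstab AA X := by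
    intro τ hτ a ha
    have h1 : τ ^ p = 1 := h.YY_pow τ hτ
    have h2 : τ ^ (p - 1) = τ⁻¹ := by
      rw [eq_inv_iff_mul_eq_one, ← pow_succ, Nat.sub_add_cancel h.hp.one_le, h1]
    have := hpow τ hτ (p - 1) a ha
    rwa [h2, inv_inv] at this
  intro d hd
  unfold DDs at hd
  induction hd using Subgroup.closure_induction with
  | mem x hx => exact ⟨hstep x hx, hstep' x hx⟩
  | one => exact ⟨fun a ha => by simpa using ha, fun a ha => by simpa using ha⟩
  | mul x y _ _ hx hy =>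
    refine ⟨fun a ha => ?_, fun a ha => ?_⟩
    · have := hx.1 _ (hy.1 a ha)
      have e : x * y * a * (x * y)⁻¹ = x * (y * a * y⁻¹) * x⁻¹ := by group
      rw [e]; exact this
    · have := hy.2 _ (hx.2 a ha)
      have e : (x * y)⁻¹ * a * (x * y) = y⁻¹ * (x⁻¹ * a * x) * y := by group
      rw [e]; exact this
  | inv x _ hx =>
    refine ⟨fun a ha => ?_, fun a ha => ?_⟩
    · have := hx.2 a ha
      rwa [inv_inv]
    · have := hx.1 a ha
      rwa [inv_inv]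

set_option maxHeartbeats 800000 in
/-- **Lemma M**: the configuration is contradictory -/
theorem lemmaM [Finite Q] (h : LM p n TT SS ζ) : False := by
  classical
  haveI : Fact p.Prime := ⟨h.hp⟩
  obtain ⟨AA, hAD, hAab, hAn, hAcen⟩ := h.exists_AA
  have hA : HasAA h AA := ⟨hAD, hAab, hAn, hAcen⟩
  obtain ⟨X, hX⟩ := hA.exists_minInv
  have hXt : ∀ t ∈ TT, IsMinInv AA (img t X) := fun t ht =>
    hX.img t (hA.nor' t ht) (hA.nor t ht)
  have hDT : DDs p n SS ≤ TT := h.DD_le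
  -- the abstract group
  have hP : IsPGroup p ↥(DDs p n SS) := h.TTp.to_le hDT
  obtain ⟨Y, hY⟩ : ∃ Y : Set ↥(DDs p n SS),
      Y = ((↑) : ↥(Subgroup.closure (YYs p n SS)) → MulAut Q) ⁻¹' (YYs p n SS) := ⟨_, rfl⟩
  have hYmem : ∀ d : ↥(DDs p n SS), d ∈ Y ↔ (d : MulAut Q) ∈ YYs p n SS := by
    intro d; rw [hY]; rfl
  have hYconj : ∀ g : ↥(DDs p n SS), ∀ t ∈ Y, g * t * g⁻¹ ∈ Y := by
    intro g t ht
    rw [hYmem] at ht ⊢
    exact h.YY_conj (g : MulAut Q) (hDT g.2) _ ht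
  have hYp : ∀ t ∈ Y, t ^ p = 1 := by
    intro t ht
    rw [hYmem] at ht
    apply Subtype.ext
    exact h.YY_pow _ ht
  have hgen : Subgroup.closure Y = ⊤ := by
    rw [hY]
    exact Subgroup.closure_closure_coe_preimage
  obtain ⟨A, hAdef⟩ : ∃ A : Subgroup ↥(DDs p n SS), A = AA.subgroupOf (DDs p n SS) := ⟨_, rfl⟩
  have hAmem : ∀ d : ↥(DDs p n SS), d ∈ A ↔ (d : MulAut Q) ∈ AA := by
    intro d; rw [hAdef, Subgroup.mem_subgroupOf]
  haveI hAnorm : A.Normal := by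
    constructor
    intro a ha g
    rw [hAmem] at ha ⊢
    exact hAn (g : MulAut Q) (hDT g.2) _ ha
  have hAab' : ∀ a ∈ A, ∀ b ∈ A, a * b = b * a := by
    intro a ha b hb
    rw [hAmem] at ha hb
    apply Subtype.ext
    exact hAab _ ha _ hb
  have hCA : ∀ d : ↥(DDs p n SS), (∀ a ∈ A, d * a = a * d) → d ∈ A := by
    intro d hd
    rw [hAmem]
    apply hAcen _ d.2
    intro a ha
    have := hd ⟨a, hAD ha⟩ ((hAmem _).2 ha)
    exact congrArg Subtype.val this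
  obtain ⟨K, hK⟩ : ∃ K : ↥TT → Subgroup ↥(DDs p n SS),
      K = fun t : ↥TT => (pstab AA (img (t : MulAut Q) X)).subgroupOf (DDs p n SS) := ⟨_, rfl⟩
  have hKmem : ∀ (t : ↥TT) (d : ↥(DDs p n SS)),
      d ∈ K t ↔ (d : MulAut Q) ∈ pstab AA (img (t : MulAut Q) X) := by
    intro t d; rw [hK, Subgroup.mem_subgroupOf]
  have hKA : ∀ t, K t ≤ A := by
    intro t d hd
    rw [hKmem] at hd
    rw [hAmem]
    exact pstab_le _ _ hd
  have hKn : ∀ t, (K t).Normal := by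
    intro t
    constructor
    intro a ha g
    rw [hKmem] at ha ⊢
    exact ((hA.DD_normalizes (hXt t t.2)) (g : MulAut Q) g.2).1 _ ha
  have hKcyc : ∀ t, ∃ a ∈ A, ∀ b ∈ A, ∃ k : ℕ, b * (a ^ k)⁻¹ ∈ K t := by
    intro t
    obtain ⟨hZX, hne, hinv, -⟩ := hXt t t.2
    obtain ⟨a₀, ha₀, hcyc⟩ := Cfsg.Agent.Helper1.RPC.cyclic_mod_pstab AA hAab hA.isP h.cop
      (img (t : MulAut Q) X) hinv hZX hne h.cls hA.fixZ (by
        rintro a ha ⟨g, hg, hag⟩ g' hg' hag'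
        refine (hXt t t.2).fix_mem_center hAab hA.fixZ ha ?_ hg' hag'
        intro hc
        exact hag ((mem_pstab.1 hc).2 g hg))
    refine ⟨⟨a₀, hAD ha₀⟩, (hAmem _).2 ha₀, ?_⟩
    intro b hb
    rw [hAmem] at hb
    obtain ⟨k, hk⟩ := hcyc _ hb
    refine ⟨k, ?_⟩
    rw [hKmem, mem_pstab]
    refine ⟨?_, hk⟩
    exact AA.mul_mem hb (AA.inv_mem (AA.pow_mem ha₀ k))
  have hKint : ∀ a ∈ A, (∀ t, a ∈ K t) → a = 1 := by
    intro a _ hall
    apply Subtype.ext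
    apply hA.eq_one_of_fix_imgs hX
    intro t ht g hg
    have := hall ⟨t, ht⟩
    rw [hKmem] at this
    exact (mem_pstab.1 this).2 g hg
  have hcomm := Cfsg.Agent.Helper1.RPC.caseTwo h.hp2 hP Y hYconj hYp hgen A hAab' hCA K hKA hKn
    hKcyc hKint
  -- hence `DD` is abelian and `ζ = 1`
  have hbot : ⁅DDs p n SS, DDs p n SS⁆ = ⊥ := by
    rw [eq_bot_iff, Subgroup.commutator_le]
    intro a ha b hb
    rw [Subgroup.mem_bot, commutatorElement_eq_one_iff_mul_comm]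
    exact congrArg Subtype.val (hcomm ⟨a, ha⟩ ⟨b, hb⟩)
  have := h.ζD
  rw [hbot, Subgroup.mem_bot] at this
  exact h.ζ1 this

end LM

end Cfsg.Agent.Helper9.RP
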