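import Mathlib
import Cfsg.Agent.Helper3.ShInvSyl

set_option autoImplicit false

/-!
Tools for the transfer from a group `H` to the automorphism group of a subgroup `R`:
the conjugation homomorphism `T →* MulAut R` and an invariant Sylow subgroup that is not
centralised.
-/

namespace Cfsg.Agent.Helper9.RP

variable {H : Type*} [Group H]

/-- conjugation action of a subgroup `T` normalising `R` on `R` -/
def conjAut (T R : Subgroup H) (hTR : T ≤ Subgroup.normalizer (R : Set H)) : ↥T →* MulAut ↥R where
  toFun t :=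
    { toFun := fun r => ⟨(t : H) * r * (t : H)⁻¹,
        (Subgroup.mem_normalizer_iff.1 (hTR t.2) _).1 r.2⟩
      invFun := fun r => ⟨(t : H)⁻¹ * r * (t : H), by
        have := (Subgroup.mem_normalizer_iff.1 (hTR (T.inv_mem t.2)) (r : H)).1 r.2
        simpa using this⟩
      left_inv := fun r => Subtype.ext (by simp [mul_assoc])
      right_inv := fun r => Subtype.ext (by simp [mul_assoc])
      map_mul' := fun r r' => Subtype.ext (by simp [mul_assoc]) }
  map_one' := by
    apply MulEquiv.ext
    intro r
    apply Subtype.ext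
    simp
  map_mul' := fun t t' => by
    apply MulEquiv.ext
    intro r
    apply Subtype.ext
    simp [mul_assoc]

theorem conjAut_apply_coe (T R : Subgroup H) (hTR : T ≤ Subgroup.normalizer (R : Set H))
    (t : ↥T) (r : ↥R) : ((conjAut T R hTR t) r : H) = (t : H) * r * (t : H)⁻¹ := rfl

/-- a `p`-group `T` acting on a `p'`-group `N` on which `y` acts nontrivially normalises a Sylow
subgroup of `N` on which `y` acts nontrivially -/
theorem exists_invariant_sylow_not_centralized_T [Finite H] {p : ℕ}
    [hp : Fact p.Prime] (N T : Subgroup H) (hT : IsPGroup p T)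
    (hTN : T ≤ Subgroup.normalizer (N : Set H))
    (hN : ¬ p ∣ Nat.card N) (y : H) (hnc : ∃ g ∈ N, y * g ≠ g * y) :
    ∃ q : ℕ, q.Prime ∧ q ≠ p ∧ ∃ S : Subgroup H, S ≤ N ∧ IsPGroup q S ∧
      T ≤ Subgroup.normalizer (S : Set H) ∧ ∃ g ∈ S, y * g ≠ g * y := by
  classical
  by_contra hcon
  push Not at hcon
  obtain ⟨L, hL⟩ : ∃ L : Subgroup H, L = N ⊓ Subgroup.centralizer {y} := ⟨_, rfl⟩
  have hLmem : ∀ g, g ∈ L ↔ g ∈ N ∧ y * g = g * y := by
    intro g
    rw [hL, Subgroup.mem_inf, Subgroup.mem_centralizer_singleton_iff]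
    constructor
    · rintro ⟨h1, h2⟩
      exact ⟨h1, h2.symm⟩
    · rintro ⟨h1, h2⟩
      exact ⟨h1, h2.symm⟩
  have hLN : L = N := by
    have hLle : L ≤ N := by rw [hL]; exact inf_le_left
    apply Subgroup.eq_of_le_of_card_ge hLle
    apply Nat.le_of_dvd Nat.card_pos
    rw [← Nat.factorization_le_iff_dvd Nat.card_pos.ne' Nat.card_pos.ne']
    intro q
    by_cases hq : q.Prime
    · haveI : Fact q.Prime := ⟨hq⟩
      obtain ⟨S, hSN, hScard, hSx⟩ :=
        Cfsg.Agent.Helper3.Shult.exists_invariant_sylow_of_pgroup N T hTN hT hN q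
      rw [← hq.pow_dvd_iff_le_factorization Nat.card_pos.ne', ← hScard]
      apply Subgroup.card_dvd_of_le
      by_cases hqp : q = p
      · have h0 : (Nat.card N).factorization q = 0 := by
          rw [hqp]; exact Nat.factorization_eq_zero_of_not_dvd hN
        rw [h0, pow_zero] at hScard
        rw [Subgroup.card_eq_one.1 hScard]; exact bot_le
      · intro g hg
        rw [hLmem]
        refine ⟨hSN hg, ?_⟩
        have hSp : IsPGroup q S := IsPGroup.of_card hScard
        exact hcon q hq hqp S hSN hSp hSx g hg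
    · rw [Nat.factorization_eq_zero_of_not_prime _ hq]; exact Nat.zero_le _
  obtain ⟨g, hg, hgy⟩ := hnc
  apply hgy
  have : g ∈ L := by rw [hLN]; exact hg
  exact ((hLmem g).1 this).2

end Cfsg.Agent.Helper9.RP
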