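import Mathlib
import Cfsg.Agent.Helper9.RP.RPCase2
import Cfsg.Agent.Helper9.RP.RPMin
import Cfsg.Agent.Helper9.RP.RPTransfer
import Cfsg.Agent.Helper3.ShHHbc

set_option autoImplicit false

/-!
Theorem `dab`: in the Hall–Higman situation with all elements of the `T`-invariant set `S`
"exceptional" (`(ρ s - 1) ^ (p ^ n - 1) = 0`), the powers `s ^ p ^ (n - 1)`, `s ∈ S`, commute.
-/

namespace Cfsg.Agent.Helper9.RP

open scoped commutatorElement

set_option maxHeartbeats 1600000 in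
theorem dab {H : Type*} [Group H] [Finite H] {p : ℕ} [Fact p.Prime] (hp2 : p ≠ 2)
    {F V : Type*} [Field F] [CharP F p] [AddCommGroup V] [Module F V] [FiniteDimensional F V]
    (rho : H →* Module.End F V) (N T : Subgroup H) (hT : IsPGroup p T)
    (hTN : T ≤ Subgroup.normalizer (N : Set H)) (hNp : ¬ p ∣ Nat.card N)
    (hfaith : ∀ g ∈ N, rho g = 1 → g = 1)
    (hCT : ∀ t ∈ T, (∀ g ∈ N, t * g = g * t) → t = 1) (n : ℕ) (hn : 1 ≤ n) (S : Set H)
    (hST : S ⊆ T) (hSconj : ∀ t ∈ T, ∀ s ∈ S, t * s * t⁻¹ ∈ S) (hSpow : ∀ s ∈ S, s ^ p ^ n = 1)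
    (hSexc : ∀ s ∈ S, (rho s - 1) ^ (p ^ n - 1) = 0) :
    ∀ s ∈ S, ∀ s' ∈ S,
      s ^ p ^ (n - 1) * s' ^ p ^ (n - 1) = s' ^ p ^ (n - 1) * s ^ p ^ (n - 1) := by
  classical
  have hpP : p.Prime := Fact.out
  by_contra hcon
  push Not at hcon
  obtain ⟨s₁, hs₁, s₂, hs₂, hne⟩ := hcon
  -- (M1) in `H`
  have hM1 : ∀ s ∈ S, ∀ q : ℕ, q.Prime → q ≠ p → ∀ Q₀ : Subgroup H, Q₀ ≤ N → IsPGroup q Q₀ →
      (∀ g ∈ Q₀, ∀ h ∈ Q₀, g * h = h * g) → (∀ g ∈ Q₀, s * g * s⁻¹ ∈ Q₀) →
      ∀ g ∈ Q₀, s ^ p ^ (n - 1) * g * (s ^ p ^ (n - 1))⁻¹ = g := by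
    intro s hs q hq hqp Q₀ hQN hQq hab hinv
    by_contra hnc
    push Not at hnc
    rcases Cfsg.Agent.Helper3.Shult.hh_linear p rho Q₀ q hq hqp hQq s n hn (hSpow s hs) hinv
      (fun g hg => hfaith g (hQN hg)) hnc (p ^ n - 1) (hSexc s hs) with
      h1 | ⟨n₀, m, -, -, -, -, ⟨g, hg, h, hh, hgh⟩, -⟩
    · have : 0 < p ^ n := pow_pos hpP.pos n
      omega
    · exact hgh (hab g hg h hh)
  -- work inside `T`
  obtain ⟨ST, hSTdef⟩ : ∃ ST : Set ↥T, ST = {t : ↥T | (t : H) ∈ S} := ⟨_, rfl⟩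
  have hSTmem : ∀ t : ↥T, t ∈ ST ↔ (t : H) ∈ S := by intro t; rw [hSTdef]; rfl
  obtain ⟨YT, hYT⟩ : ∃ YT : Set ↥T, YT = (fun t => t ^ p ^ (n - 1)) '' ST := ⟨_, rfl⟩
  obtain ⟨DT, hDT⟩ : ∃ DT : Subgroup ↥T, DT = Subgroup.closure YT := ⟨_, rfl⟩
  have hYTconj : ∀ t : ↥T, ∀ y ∈ YT, t * y * t⁻¹ ∈ YT := by
    intro t y hy
    rw [hYT] at hy ⊢
    obtain ⟨u, hu, rfl⟩ := hy
    refine ⟨t * u * t⁻¹, ?_, ?_⟩
    · rw [hSTmem] at hu ⊢
      exact hSconj t t.2 u hu
    · show (t * u * t⁻¹) ^ p ^ (n - 1) = t * u ^ p ^ (n - 1) * t⁻¹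
      exact conj_pow
  have hDTn : DT.Normal := by
    constructor
    intro d hd t
    rw [hDT] at hd ⊢
    induction hd using Subgroup.closure_induction with
    | mem x hx => exact Subgroup.subset_closure (hYTconj t x hx)
    | one => simp
    | mul x y _ _ hx hy =>
      have e : t * (x * y) * t⁻¹ = (t * x * t⁻¹) * (t * y * t⁻¹) := by group
      rw [e]; exact Subgroup.mul_mem _ hx hy
    | inv x _ hx =>
      have e : t * x⁻¹ * t⁻¹ = (t * x * t⁻¹)⁻¹ := by group
      rw [e]; exact Subgroup.inv_mem _ hx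
  have hex : ∃ c ∈ ⁅DT, DT⁆, c ∉ (⊥ : Subgroup ↥T) := by
    have h1 : (⟨s₁, hST hs₁⟩ : ↥T) ^ p ^ (n - 1) ∈ DT := by
      rw [hDT]; apply Subgroup.subset_closure; rw [hYT]
      exact ⟨_, (hSTmem _).2 hs₁, rfl⟩
    have h2 : (⟨s₂, hST hs₂⟩ : ↥T) ^ p ^ (n - 1) ∈ DT := by
      rw [hDT]; apply Subgroup.subset_closure; rw [hYT]
      exact ⟨_, (hSTmem _).2 hs₂, rfl⟩
    refine ⟨_, Subgroup.commutator_mem_commutator h1 h2, ?_⟩
    rw [Subgroup.mem_bot, commutatorElement_eq_one_iff_mul_comm]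
    intro h
    exact hne (congrArg Subtype.val h)
  obtain ⟨z, hzD, hz1, hzc⟩ := exists_central_mod_type hT ⊥ ⁅DT, DT⁆ hex
  rw [Subgroup.mem_bot] at hz1
  have hzcen : ∀ t : ↥T, t * z = z * t := by
    intro t
    have := hzc t
    rw [Subgroup.mem_bot] at this
    have e : z * t = (z * t * z⁻¹ * t⁻¹) * (t * z) := by group
    rw [e, this, one_mul]
  have hzcenH : ∀ b ∈ T, b * (z : H) = (z : H) * b := by
    intro b hb
    exact congrArg Subtype.val (hzcen ⟨b, hb⟩)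
  have hzN : ∃ g ∈ N, (z : H) * g ≠ g * (z : H) := by
    by_contra hc
    push Not at hc
    apply hz1
    exact Subtype.ext (hCT z z.2 hc)
  obtain ⟨q, hq, hqp, N₂, hN₂N, hN₂q, hTN₂, hnc₂⟩ :=
    exists_invariant_sylow_not_centralized_T N T hT hTN hNp (z : H) hzN
  have : Fact q.Prime := ⟨hq⟩
  obtain ⟨R, hRN₂, hTR, hRnc, hRcen, hRcomm, hRmin⟩ :=
    exists_min_config_gen (Ne.symm hqp) T N₂ (z : H) hT z.2 hzcenH hN₂q hTN₂ hnc₂
  -- the transfer
  obtain ⟨φ, hφ⟩ : ∃ φ : ↥T →* MulAut ↥R, φ = conjAut T R hTR := ⟨_, rfl⟩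
  have hφcoe : ∀ (t : ↥T) (r : ↥R), ((φ t) r : H) = (t : H) * r * (t : H)⁻¹ := by
    intro t r; rw [hφ]; rfl
  have hcenR : ∀ c : ↥R, (z : H) * c = c * z → c ∈ Subgroup.center ↥R := by
    intro c hc
    rw [Subgroup.mem_center_iff]
    intro y
    apply Subtype.ext
    exact (hRcen c c.2 hc y y.2).symm
  have hLM : LM p n φ.range (φ '' ST) (φ z) :=
    { hp := hpP
      hp2 := hp2
      cop := by
        have h1 : Nat.card ↥R ∣ Nat.card ↥N := Subgroup.card_dvd_of_le (hRN₂.trans hN₂N)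
        have h2 : (Nat.card ↥N).Coprime p := ((Nat.Prime.coprime_iff_not_dvd hpP).2 hNp).symm
        exact Nat.Coprime.coprime_dvd_left h1 h2
      TTp := hT.of_surjective φ.rangeRestrict φ.rangeRestrict_surjective
      hn := hn
      SSsub := by
        rintro σ ⟨t, -, rfl⟩
        exact ⟨t, rfl⟩
      SSconj := by
        rintro t' ⟨u, rfl⟩ σ ⟨t, ht, rfl⟩
        refine ⟨u * t * u⁻¹, ?_, by rw [map_mul, map_mul, map_inv]⟩
        rw [hSTmem] at ht ⊢
        exact hSconj u u.2 t ht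
      SSpow := by
        rintro σ ⟨t, ht, rfl⟩
        rw [hSTmem] at ht
        rw [← map_pow]
        have : t ^ p ^ n = 1 := Subtype.ext (by simpa using hSpow t ht)
        rw [this, map_one]
      M1 := by
        rintro σ ⟨t, ht, rfl⟩ Q₀ hab hinv g hg
        rw [hSTmem] at ht
        have hle : Q₀.map R.subtype ≤ N₂ := by
          rintro _ ⟨r, -, rfl⟩
          exact hRN₂ r.2
        have h1 := hM1 (t : H) ht q hq hqp (Q₀.map R.subtype) (hle.trans hN₂N) (hN₂q.to_le hle)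
          (by
            rintro _ ⟨r, hr, rfl⟩ _ ⟨r', hr', rfl⟩
            exact congrArg Subtype.val (hab r hr r' hr'))
          (by
            rintro _ ⟨r, hr, rfl⟩
            exact ⟨φ t r, hinv r hr, hφcoe t r⟩)
          (g : H) ⟨g, hg, rfl⟩
        apply Subtype.ext
        rw [← map_pow, hφcoe]
        simpa using h1
      ζTT := ⟨z, rfl⟩
      ζc := by
        rintro t' ⟨u, rfl⟩
        rw [← map_mul, ← map_mul, hzcen u]
      ζD := by
        have h1 : DDs p n (φ '' ST) = DT.map φ := by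
          rw [hDT, MonoidHom.map_closure, hYT]
          unfold DDs YYs
          congr 1
          rw [Set.image_image, Set.image_image]
          apply Set.image_congr
          intro t _
          exact (map_pow φ t _).symm
        rw [h1, ← Subgroup.map_commutator]
        exact Subgroup.mem_map_of_mem φ hzD
      ζ1 := by
        intro h1
        obtain ⟨x, hx, hne'⟩ := hRnc
        apply hne'
        have h2 : ((φ z) ⟨x, hx⟩ : H) = x := by rw [h1]; rfl
        rw [hφcoe] at h2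
        calc (z : H) * x = ((z : H) * x * (z : H)⁻¹) * z := by group
          _ = x * z := by rw [h2]
      fixζ := by
        intro g hg
        apply hcenR
        have h1 : (z : H) * g * (z : H)⁻¹ = g := by
          rw [← hφcoe]; exact congrArg Subtype.val hg
        calc (z : H) * g = ((z : H) * g * (z : H)⁻¹) * z := by group
          _ = g * z := by rw [h1]
      cls := by
        intro g h
        apply hcenR
        exact hRcomm g g.2 h h.2
      irr := by
        intro M hM hMtop g hg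
        apply hcenR
        apply hRmin (M.map R.subtype) (Subgroup.map_subtype_le M) _ _ g ⟨g, hg, rfl⟩
        · apply Cfsg.Agent.Helper1.HHD3.le_normalizer_of_conj_mem
          rintro b hb _ ⟨r, hr, rfl⟩
          exact ⟨φ ⟨b, hb⟩ r, hM _ ⟨⟨b, hb⟩, rfl⟩ r hr, hφcoe _ r⟩
        · intro h
          apply hMtop
          rw [eq_top_iff]
          intro r _
          have : (r : H) ∈ M.map R.subtype := by rw [h]; exact r.2
          obtain ⟨r', hr', e⟩ := this
          have : r' = r := Subtype.ext e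
          rw [← this]; exact hr' }
  exact hLM.lemmaM

end Cfsg.Agent.Helper9.RP
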