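import Mathlib
import Cfsg.Agent.Helper1.HHD3Der
import Cfsg.Agent.Helper3.HHConjA

set_option autoImplicit false

/-!
The norm argument on the Frattini module: if `x ^ M = 1` and `(u * x) ^ M = 1` for all `u ∈ P`,
then `∑_{i<M} ρ₀(x)^i = 0`; for `M = p ^ n` this says `(ρ₀ x - 1) ^ (p ^ n - 1) = 0`.
-/

namespace Cfsg.Agent.Helper9.RP

open Module

universe u v

variable {G : Type u} [Group G]

section FrattiniModule

variable {p : ℕ} [Fact p.Prime] (P : Subgroup G) [hPn : P.Normal] {V : Type v} [AddCommGroup V]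
  [Module (ZMod p) V] (θ₀ : ↥P →* Multiplicative V) (ρ₀ : G →* Module.End (ZMod p) V)

/-- the norm of `ū` under `x` is the image of `(ux)^k x^{-k}` -/
theorem frat_norm
    (hequiv : ∀ (g : G) (u : ↥P), ρ₀ g (Multiplicative.toAdd (θ₀ u)) =
      Multiplicative.toAdd (θ₀ ⟨g * u * g⁻¹, hPn.conj_mem u u.2 g⟩))
    (x : G) (u : ↥P) (k : ℕ) :
    ∃ hk : ((u : G) * x) ^ k * (x ^ k)⁻¹ ∈ P,
      ∑ i ∈ Finset.range k, (ρ₀ x ^ i) (Multiplicative.toAdd (θ₀ u)) =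
        Multiplicative.toAdd (θ₀ ⟨((u : G) * x) ^ k * (x ^ k)⁻¹, hk⟩) := by
  induction k with
  | zero =>
    refine ⟨by simp, ?_⟩
    rw [Finset.range_zero, Finset.sum_empty]
    have : (⟨((u : G) * x) ^ 0 * (x ^ 0)⁻¹, by simp⟩ : P) = 1 := by
      apply Subtype.ext; simp
    rw [this, map_one]
    rfl
  | succ k ih =>
    obtain ⟨hk, ih⟩ := ih
    have hconj : x ^ k * (u : G) * (x ^ k)⁻¹ ∈ P := hPn.conj_mem u u.2 (x ^ k)
    have heq : ((u : G) * x) ^ (k + 1) * (x ^ (k + 1))⁻¹ =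
        (((u : G) * x) ^ k * (x ^ k)⁻¹) * (x ^ k * u * (x ^ k)⁻¹) := by
      rw [pow_succ, pow_succ]; group
    have hk1 : ((u : G) * x) ^ (k + 1) * (x ^ (k + 1))⁻¹ ∈ P := by
      rw [heq]; exact P.mul_mem hk hconj
    refine ⟨hk1, ?_⟩
    rw [Finset.sum_range_succ, ih, ← map_pow, hequiv, ← toAdd_mul, ← map_mul]
    congr 2
    apply Subtype.ext
    exact heq.symm

theorem frat_norm_eq_zero (hθ : Function.Surjective θ₀)
    (hequiv : ∀ (g : G) (u : ↥P), ρ₀ g (Multiplicative.toAdd (θ₀ u)) =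
      Multiplicative.toAdd (θ₀ ⟨g * u * g⁻¹, hPn.conj_mem u u.2 g⟩))
    (x : G) (M : ℕ) (hx : x ^ M = 1) (hux : ∀ u ∈ P, (u * x) ^ M = 1) :
    ∑ i ∈ Finset.range M, ρ₀ x ^ i = 0 := by
  apply LinearMap.ext
  intro w
  obtain ⟨u, hu⟩ := hθ (Multiplicative.ofAdd w)
  have hw : w = Multiplicative.toAdd (θ₀ u) := by rw [hu]; rfl
  rw [hw, LinearMap.sum_apply]
  obtain ⟨hk, h⟩ := frat_norm P θ₀ ρ₀ hequiv x u M
  rw [h]
  have : (⟨((u : G) * x) ^ M * (x ^ M)⁻¹, hk⟩ : P) = 1 := by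
    apply Subtype.ext
    show ((u : G) * x) ^ M * (x ^ M)⁻¹ = 1
    rw [hux u u.2, hx]
    simp
  rw [this, map_one]
  rfl

/-- all elements `x` with `(u x)^(p^n) = 1` for all `u ∈ P` are "exceptional" on the Frattini
module -/
theorem frat_exc (hθ : Function.Surjective θ₀)
    (hequiv : ∀ (g : G) (u : ↥P), ρ₀ g (Multiplicative.toAdd (θ₀ u)) =
      Multiplicative.toAdd (θ₀ ⟨g * u * g⁻¹, hPn.conj_mem u u.2 g⟩))
    (x : G) (n : ℕ) (hx : x ^ p ^ n = 1) (hux : ∀ u ∈ P, (u * x) ^ p ^ n = 1) :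
    (ρ₀ x - 1) ^ (p ^ n - 1) = 0 := by
  rw [← Cfsg.Agent.Helper3.HH.geom_sum_eq_pow (ZMod p) p n (ρ₀ x)]
  exact frat_norm_eq_zero P θ₀ ρ₀ hθ hequiv x (p ^ n) hx hux

end FrattiniModule

end Cfsg.Agent.Helper9.RP
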