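import Mathlib
import Cfsg.Agent.Helper9.RP.RPPartA1
import Cfsg.Agent.Helper1.HHD3Ind
import Cfsg.Agent.Helper3.ShHHBabs
import Cfsg.Agent.Helper3.HHAbB

set_option autoImplicit false

/-!
Part (a) of the Hall–Higman bound: if `p` is odd and not a Fermat prime, or the Sylow `2`-subgroups
are abelian, then the `p`-length is at most the exponent `e_p` of the Sylow `p`-subgroups.
-/

namespace Cfsg.Agent.Helper9.RP

open Module
open Cfsg.Agent.Helper3.PLen Cfsg.Agent.Helper3.HHAb

universe u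

variable {G : Type u} [Group G]

/-- the hypothesis of part (a) -/
def HypA (p : ℕ) (G : Type u) [Group G] : Prop :=
  (¬ ∃ k : ℕ, p = 2 ^ k + 1) ∨ ∀ S : Sylow 2 G, IsMulCommutative (S : Subgroup G)

theorem hypA_of_surjective [Finite G] {H : Type u} [Group H] {p : ℕ}
    (f : G →* H) (hf : Function.Surjective f) (h : HypA p G) : HypA p H := by
  rcases h with h | h
  · exact Or.inl h
  · right
    intro Q'
    obtain ⟨Q, rfl⟩ := Sylow.mapSurjective_surjective hf 2 Q'
    have hQ := h Q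
    refine ⟨⟨?_⟩⟩
    rintro ⟨a, ha⟩ ⟨b, hb⟩
    apply Subtype.ext
    rw [Sylow.coe_mapSurjective] at ha hb
    obtain ⟨a', ha', rfl⟩ := ha
    obtain ⟨b', hb', rfl⟩ := hb
    have := mul_comm' (⟨a', ha'⟩ : (Q : Subgroup G)) ⟨b', hb'⟩
    have h2 : a' * b' = b' * a' := congrArg Subtype.val this
    show f a' * f b' = f b' * f a'
    rw [← map_mul, ← map_mul, h2]

set_option maxHeartbeats 1000000 in
/-- the key step of part (a): `x ^ p ^ (n - 1) ∈ O_p(G)` -/
theorem key_a [Finite G] {p : ℕ} [hp : Fact p.Prime] (hp2 : p ≠ 2)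
    (hG : Cfsg.IsPSolvable p G) (hO : Cfsg.pPrimeCore p G = ⊥) (hA : HypA p G) (n : ℕ)
    (hn : 1 ≤ n) (hexp : ExpLE p n G) (S : Sylow p G) (x : G) (hxS : x ∈ (S : Subgroup G)) :
    x ^ p ^ (n - 1) ∈ Cfsg.pCore p G := by
  classical
  by_contra hy
  haveI hPn : (Cfsg.pCore p G).Normal := Cfsg.Agent.Helper4.pCore_normal
  obtain ⟨V, instV, instM, instF, θ₀, ρ₀, ρb, hθsurj, hequiv, hρb, hfaith⟩ :=
    Cfsg.Agent.Helper1.HHD3.exists_faithful_frattini_rep hG hO
  haveI : FiniteDimensional (ZMod p) V := Module.Finite.of_finite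
  have hsolH : Cfsg.IsPSolvable p (G ⧸ Cfsg.pCore p G) :=
    Cfsg.Agent.Helper4.isPSolvable_quotient hG _
  have hOpH : Cfsg.pCore p (G ⧸ Cfsg.pCore p G) = ⊥ := pCore_quotient_pCore p
  obtain ⟨π, hπ⟩ : ∃ π : G →* G ⧸ Cfsg.pCore p G, π = QuotientGroup.mk' (Cfsg.pCore p G) :=
    ⟨_, rfl⟩
  have hπsurj : Function.Surjective π := by rw [hπ]; exact QuotientGroup.mk'_surjective _
  have hπmk : ∀ g : G, ρb (π g) = ρ₀ g := by
    intro g; rw [hπ]; exact hρb g
  have hxpow : x ^ p ^ n = 1 := hexp S x hxS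
  have hPS : Cfsg.pCore p G ≤ (S : Subgroup G) := Cfsg.Agent.Helper4.pCore_le_sylow S
  have hexc : (ρ₀ x - 1) ^ (p ^ n - 1) = 0 :=
    frat_exc (Cfsg.pCore p G) θ₀ ρ₀ hθsurj hequiv x n hxpow
      (fun u hu => hexp S (u * x) ((S : Subgroup G).mul_mem (hPS hu) hxS))
  have hexcb : (ρb (π x) - 1) ^ (p ^ n - 1) = 0 := by rw [hπmk]; exact hexc
  have hy1 : (π x) ^ p ^ (n - 1) ≠ 1 := by
    rw [← map_pow]
    intro h
    apply hy
    rw [hπ] at h
    exact (QuotientGroup.eq_one_iff _).1 h
  have hxbpow : (π x) ^ p ^ n = 1 := by rw [← map_pow, hxpow, map_one]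
  rcases Cfsg.Agent.Helper3.Shult.hh_B_abs p hsolH hOpH ρb (fun g _ hg => hfaith g hg) (π x) n hn
    hxbpow hy1 (p ^ n - 1) hexcb with
    h | ⟨n₀, q, m, hn₀, -, hq, -, -, heq, ⟨S₂, hS₂q, g, hg, h, hh, hgh⟩, -⟩
  · have : 0 < p ^ n := pow_pos hp.out.pos n
    omega
  · -- `q = 2`
    have hodd : Odd p := hp.out.odd_of_ne_two hp2
    have hodd' : Odd (p ^ n₀) := hodd.pow
    have heven : 2 ∣ p ^ n₀ - 1 := by
      obtain ⟨k, hk⟩ := hodd'
      exact ⟨k, by omega⟩
    rw [heq] at heven
    have h2q : 2 ∣ q := Nat.Prime.dvd_of_dvd_pow Nat.prime_two heven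
    have hq2 : q = 2 := ((Nat.prime_dvd_prime_iff_eq Nat.prime_two hq).1 h2q).symm
    subst hq2
    rcases hypA_of_surjective π hπsurj hA with hA' | hA'
    · apply hA'
      have h1 : p - 1 ∣ p ^ n₀ - 1 := Nat.sub_one_dvd_pow_sub_one p n₀
      rw [heq] at h1
      obtain ⟨k, -, hk⟩ := (Nat.dvd_prime_pow Nat.prime_two).1 h1
      refine ⟨k, ?_⟩
      have := hp.out.one_lt
      omega
    · obtain ⟨Q₁, hQ₁⟩ := hS₂q.exists_le_sylow
      have hc := hA' Q₁
      apply hgh
      have := mul_comm' (⟨g, hQ₁ hg⟩ : (Q₁ : Subgroup (G ⧸ Cfsg.pCore p G))) ⟨h, hQ₁ hh⟩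
      exact congrArg Subtype.val this

set_option maxHeartbeats 1000000 in
/-- part (a) of the Hall–Higman bound, by induction on the order -/
theorem main_a {p : ℕ} [hp : Fact p.Prime] (hp2 : p ≠ 2) : ∀ N : ℕ, ∀ (G : Type u) [Group G]
    [Finite G], Nat.card G = N → Cfsg.IsPSolvable p G → HypA p G → ∀ n : ℕ, ExpLE p n G →
    Cfsg.PLengthLE p n G := by
  intro N
  induction N using Nat.strong_induction_on with
  | _ N IH =>
  intro G _ _ hN hG hA n hexp
  by_cases hO : Cfsg.pPrimeCore p G = ⊥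
  · rcases Nat.eq_zero_or_pos n with rfl | hn
    · -- no `p`-elements
      apply pLengthLE_zero_of_coprime
      obtain ⟨S⟩ : Nonempty (Sylow p G) := inferInstance
      have hS : (S : Subgroup G) = ⊥ := by
        rw [eq_bot_iff]
        intro x hx
        have := hexp S x hx
        rw [pow_zero, pow_one] at this
        rw [Subgroup.mem_bot]; exact this
      have hcard : Nat.card (S : Subgroup G) = 1 := by rw [hS]; exact Subgroup.card_bot
      have hnd : ¬ p ∣ Nat.card G := by
        intro hd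
        have hpos : 0 < (Nat.card G).factorization p :=
          hp.out.factorization_pos_of_dvd Nat.card_pos.ne' hd
        rw [S.card_eq_multiplicity] at hcard
        have : 1 < p ^ (Nat.card G).factorization p := Nat.one_lt_pow hpos.ne' hp.out.one_lt
        omega
      exact ((Nat.Prime.coprime_iff_not_dvd hp.out).2 hnd).symm
    · by_cases hsub : Subsingleton G
      · rw [pLengthLE_iff]; exact Subsingleton.elim _ _
      have hnt : Nontrivial G := not_subsingleton_iff_nontrivial.1 hsub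
      obtain ⟨P, hP⟩ : ∃ P : Subgroup G, P = Cfsg.pCore p G := ⟨_, rfl⟩
      have hPn : P.Normal := by rw [hP]; exact Cfsg.Agent.Helper4.pCore_normal
      have hPne : P ≠ ⊥ := by
        intro hbot
        have h1 := Cfsg.Agent.Helper4.centralizer_pCore_le_of_isPSolvable hG hO
        rw [← hP, hbot] at h1
        have h2 : (⊤ : Subgroup G) ≤ ⊥ := by
          refine le_trans ?_ h1
          intro g _
          rw [Subgroup.mem_centralizer_iff]
          intro h hh
          rw [Subgroup.coe_bot, Set.mem_singleton_iff] at hh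
          subst hh; simp
        exact bot_ne_top (le_bot_iff.1 h2).symm
      have hcardlt : Nat.card (G ⧸ P) < N := by
        rw [← hN, ← Subgroup.index_eq_card, ← Subgroup.card_mul_index P]
        have h3 : 1 < Nat.card P := (Subgroup.one_lt_card_iff_ne_bot _).2 hPne
        have h4 : 0 < P.index := Nat.pos_of_ne_zero Subgroup.index_ne_zero_of_finite
        nlinarith
      have hsurj : Function.Surjective (QuotientGroup.mk' P) := QuotientGroup.mk'_surjective P
      have hexp' : ExpLE p (n - 1) (G ⧸ P) := by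
        intro S' z hz
        obtain ⟨S, rfl⟩ := Sylow.mapSurjective_surjective hsurj p S'
        rw [Sylow.coe_mapSurjective] at hz
        obtain ⟨x, hx, rfl⟩ := hz
        have hk := key_a hp2 hG hO hA n hn hexp S x hx
        rw [← map_pow]
        rw [← hP] at hk
        exact (QuotientGroup.eq_one_iff _).2 hk
      have h1 : Cfsg.PLengthLE p (n - 1) (G ⧸ P) :=
        IH _ hcardlt (G ⧸ P) rfl (Cfsg.Agent.Helper4.isPSolvable_quotient hG P)
          (hypA_of_surjective _ hsurj hA) (n - 1) hexp'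
      have h0 : Cfsg.PLengthLE p 1 P := by
        have hPp : IsPGroup p P := by rw [hP]; exact Cfsg.Agent.Helper4.pCore_isPGroup
        obtain ⟨m, hm⟩ := IsPGroup.iff_card.1 hPp
        exact pLengthLE_one_of_card p hm
      have := pLengthLE_add p P h0 h1
      rwa [show 1 + (n - 1) = n by omega] at this
  · -- remove `O_{p'}(G)`
    have hlt : Nat.card (G ⧸ Cfsg.pPrimeCore p G) < N := by
      rw [← hN, ← Subgroup.index_eq_card, ← Subgroup.card_mul_index (Cfsg.pPrimeCore p G)]
      have h3 : 1 < Nat.card (Cfsg.pPrimeCore p G) := (Subgroup.one_lt_card_iff_ne_bot _).2 hO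
      have h4 : 0 < (Cfsg.pPrimeCore p G).index :=
        Nat.pos_of_ne_zero Subgroup.index_ne_zero_of_finite
      nlinarith
    have h1 : Cfsg.PLengthLE p n (G ⧸ Cfsg.pPrimeCore p G) :=
      IH _ hlt (G ⧸ Cfsg.pPrimeCore p G) rfl
        (Cfsg.Agent.Helper4.isPSolvable_quotient hG _)
        (hypA_of_surjective _ (QuotientGroup.mk'_surjective _) hA) n
        (expLE_of_surjective _ (QuotientGroup.mk'_surjective _) hexp)
    exact pLengthLE_of_quotient_coprime p _ (Cfsg.Agent.Helper1.card_pPrimeCore_coprime p) h1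

end Cfsg.Agent.Helper9.RP
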