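import Mathlib
import Cfsg.Agent.Helper9.RP.RPPartA2

set_option autoImplicit false

/-!
Part (b) of the Hall–Higman bound, `l_p ≤ 2 e_p` for odd `p`, from theorem (R') taken as a
hypothesis `RPrimeHyp`.
-/

namespace Cfsg.Agent.Helper9.RP

open Module
open Cfsg.Agent.Helper3.PLen Cfsg.Agent.Helper3.HHAb

universe u

variable {G : Type u} [Group G]

/-- the statement of theorem (R') over `ZMod p`, in one universe -/
def RPrimeHyp (p : ℕ) [Fact p.Prime] : Prop :=
  ∀ (H : Type u) [Group H] [Finite H], Cfsg.IsPSolvable p H → Cfsg.pCore p H = ⊥ →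
    ∀ (V : Type u) [AddCommGroup V] [Module (ZMod p) V] [FiniteDimensional (ZMod p) V]
      (rho : H →* Module.End (ZMod p) V), (∀ g, rho g = 1 → g = 1) → ∀ n : ℕ, 1 ≤ n →
      (∀ s : H, IsPGroup p (Subgroup.zpowers s) → (rho s - 1) ^ (p ^ n - 1) = 0) →
      ∀ x : H, IsPGroup p (Subgroup.zpowers x) → x ^ p ^ (n - 1) ∈ Cfsg.pPrimePCore p H

set_option maxHeartbeats 1000000 in
/-- the key step of part (b): the image of `x ^ p ^ (n - 1)` lies in `O_{p',p}(G / O_p(G))` -/
theorem key_b [Finite G] {p : ℕ} [hp : Fact p.Prime] (hR : RPrimeHyp.{u} p)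
    (hG : Cfsg.IsPSolvable p G) (hO : Cfsg.pPrimeCore p G = ⊥) (n : ℕ)
    (hn : 1 ≤ n) (hexp : ExpLE p n G) (S : Sylow p G) (x : G) (hxS : x ∈ (S : Subgroup G)) :
    QuotientGroup.mk' (Cfsg.pCore p G) (x ^ p ^ (n - 1)) ∈
      Cfsg.pPrimePCore p (G ⧸ Cfsg.pCore p G) := by
  classical
  haveI hPn : (Cfsg.pCore p G).Normal := Cfsg.Agent.Helper4.pCore_normal
  obtain ⟨V, instV, instM, instF, θ₀, ρ₀, ρb, hθsurj, hequiv, hρb, hfaith⟩ :=
    Cfsg.Agent.Helper1.HHD3.exists_faithful_frattini_rep hG hO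
  haveI : FiniteDimensional (ZMod p) V := Module.Finite.of_finite
  have hsolH : Cfsg.IsPSolvable p (G ⧸ Cfsg.pCore p G) :=
    Cfsg.Agent.Helper4.isPSolvable_quotient hG _
  have hOpH : Cfsg.pCore p (G ⧸ Cfsg.pCore p G) = ⊥ := pCore_quotient_pCore p
  obtain ⟨π, hπ⟩ : ∃ π : G →* G ⧸ Cfsg.pCore p G, π = QuotientGroup.mk' (Cfsg.pCore p G) :=
    ⟨_, rfl⟩
  have hπsurj : Function.Surjective π := by rw [hπ]; exact QuotientGroup.mk'_surjective _
  have hπmk : ∀ g : G, ρb (π g) = ρ₀ g := by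
    intro g; rw [hπ]; exact hρb g
  have hexc : ∀ s : G ⧸ Cfsg.pCore p G, IsPGroup p (Subgroup.zpowers s) →
      (ρb s - 1) ^ (p ^ n - 1) = 0 := by
    intro s hs
    obtain ⟨S', hS'⟩ := hs.exists_le_sylow
    obtain ⟨S₀, rfl⟩ := Sylow.mapSurjective_surjective hπsurj p S'
    have hsS : s ∈ ((S₀.mapSurjective hπsurj : Sylow p (G ⧸ Cfsg.pCore p G)) :
        Subgroup (G ⧸ Cfsg.pCore p G)) := hS' (Subgroup.mem_zpowers s)
    rw [Sylow.coe_mapSurjective] at hsS
    obtain ⟨x', hx', rfl⟩ := hsS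
    rw [hπmk]
    have hPS : Cfsg.pCore p G ≤ (S₀ : Subgroup G) := Cfsg.Agent.Helper4.pCore_le_sylow S₀
    exact frat_exc (Cfsg.pCore p G) θ₀ ρ₀ hθsurj hequiv x' n (hexp S₀ x' hx')
      (fun u hu => hexp S₀ (u * x') ((S₀ : Subgroup G).mul_mem (hPS hu) hx'))
  have hxp : IsPGroup p (Subgroup.zpowers (π x)) := by
    have h1 : IsPGroup p (Subgroup.zpowers x) :=
      S.isPGroup'.to_le ((Subgroup.zpowers_le).2 hxS)
    have h2 := h1.map π
    rwa [MonoidHom.map_zpowers] at h2
  have := hR (G ⧸ Cfsg.pCore p G) hsolH hOpH V ρb hfaith n hn hexc (π x) hxp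
  rw [← map_pow, hπ] at this
  exact this

set_option maxHeartbeats 1000000 in
/-- part (b) of the Hall–Higman bound, by induction on the order -/
theorem main_b {p : ℕ} [hp : Fact p.Prime] (hR : RPrimeHyp.{u} p) : ∀ N : ℕ,
    ∀ (G : Type u) [Group G] [Finite G], Nat.card G = N → Cfsg.IsPSolvable p G →
    ∀ n : ℕ, ExpLE p n G → Cfsg.PLengthLE p (2 * n) G := by
  intro N
  induction N using Nat.strong_induction_on with
  | _ N IH =>
  intro G _ _ hN hG n hexp
  by_cases hO : Cfsg.pPrimeCore p G = ⊥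
  · rcases Nat.eq_zero_or_pos n with rfl | hn
    · -- no `p`-elements
      apply pLengthLE_zero_of_coprime
      obtain ⟨S⟩ : Nonempty (Sylow p G) := inferInstance
      have hS : (S : Subgroup G) = ⊥ := by
        rw [eq_bot_iff]
        intro x hx
        have := hexp S x hx
        rw [pow_zero, pow_one] at this
        rw [Subgroup.mem_bot]; exact this
      have hcard : Nat.card (S : Subgroup G) = 1 := by rw [hS]; exact Subgroup.card_bot
      have hnd : ¬ p ∣ Nat.card G := by
        intro hd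
        have hpos : 0 < (Nat.card G).factorization p :=
          hp.out.factorization_pos_of_dvd Nat.card_pos.ne' hd
        rw [S.card_eq_multiplicity] at hcard
        have : 1 < p ^ (Nat.card G).factorization p := Nat.one_lt_pow hpos.ne' hp.out.one_lt
        omega
      exact ((Nat.Prime.coprime_iff_not_dvd hp.out).2 hnd).symm
    · by_cases hsub : Subsingleton G
      · rw [pLengthLE_iff]; exact Subsingleton.elim _ _
      have hnt : Nontrivial G := not_subsingleton_iff_nontrivial.1 hsub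
      set P := Cfsg.pCore p G with hP
      have hPne : P ≠ ⊥ := by
        intro hbot
        have h1 := Cfsg.Agent.Helper4.centralizer_pCore_le_of_isPSolvable hG hO
        rw [← hP, hbot] at h1
        have h2 : (⊤ : Subgroup G) ≤ ⊥ := by
          refine le_trans ?_ h1
          intro g _
          rw [Subgroup.mem_centralizer_iff]
          intro h hh
          rw [Subgroup.coe_bot, Set.mem_singleton_iff] at hh
          subst hh; simp
        exact bot_ne_top (le_bot_iff.1 h2).symm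
      -- the three quotients
      set W := Cfsg.pPrimeCore p (G ⧸ P) with hW
      set P₁ := Cfsg.pCore p ((G ⧸ P) ⧸ W) with hP₁
      have hcardlt : Nat.card (((G ⧸ P) ⧸ W) ⧸ P₁) < N := by
        have h0 : Nat.card (((G ⧸ P) ⧸ W) ⧸ P₁) ≤ Nat.card ((G ⧸ P) ⧸ W) :=
          Nat.le_of_dvd Nat.card_pos (Subgroup.card_quotient_dvd_card _)
        have h1 : Nat.card ((G ⧸ P) ⧸ W) ≤ Nat.card (G ⧸ P) :=
          Nat.le_of_dvd Nat.card_pos (Subgroup.card_quotient_dvd_card _)
        have h2 : Nat.card (G ⧸ P) < Nat.card G := by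
          rw [← Subgroup.index_eq_card, ← Subgroup.card_mul_index P]
          have h3 : 1 < Nat.card P := (Subgroup.one_lt_card_iff_ne_bot _).2 hPne
          have h4 : 0 < P.index := Nat.pos_of_ne_zero Subgroup.index_ne_zero_of_finite
          nlinarith
        omega
      have hsurj : Function.Surjective
          (((QuotientGroup.mk' P₁).comp (QuotientGroup.mk' W)).comp (QuotientGroup.mk' P)) :=
        ((QuotientGroup.mk'_surjective P₁).comp (QuotientGroup.mk'_surjective W)).comp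
          (QuotientGroup.mk'_surjective P)
      have hexp' : ExpLE p (n - 1) (((G ⧸ P) ⧸ W) ⧸ P₁) := by
        intro S' z hz
        obtain ⟨S, rfl⟩ := Sylow.mapSurjective_surjective hsurj p S'
        rw [Sylow.coe_mapSurjective] at hz
        obtain ⟨x, hx, rfl⟩ := hz
        have hk := key_b hR hG hO n hn hexp S x hx
        rw [← map_pow, MonoidHom.comp_apply, MonoidHom.comp_apply]
        apply (QuotientGroup.eq_one_iff _).2
        unfold Cfsg.pPrimePCore at hk
        rw [Subgroup.mem_comap] at hk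
        exact hk
      have hsolH : Cfsg.IsPSolvable p (G ⧸ P) := Cfsg.Agent.Helper4.isPSolvable_quotient hG P
      have hsolH1 : Cfsg.IsPSolvable p ((G ⧸ P) ⧸ W) :=
        Cfsg.Agent.Helper4.isPSolvable_quotient hsolH W
      have h1 : Cfsg.PLengthLE p (2 * (n - 1)) (((G ⧸ P) ⧸ W) ⧸ P₁) :=
        IH _ hcardlt (((G ⧸ P) ⧸ W) ⧸ P₁) rfl
          (Cfsg.Agent.Helper4.isPSolvable_quotient hsolH1 P₁) (n - 1) hexp'
      have h01 : Cfsg.PLengthLE p 1 P₁ := by
        have hPp : IsPGroup p P₁ := Cfsg.Agent.Helper4.pCore_isPGroup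
        obtain ⟨m, hm⟩ := IsPGroup.iff_card.1 hPp
        exact pLengthLE_one_of_card p hm
      have h2 : Cfsg.PLengthLE p (1 + 2 * (n - 1)) ((G ⧸ P) ⧸ W) := pLengthLE_add p P₁ h01 h1
      have h3 : Cfsg.PLengthLE p (1 + 2 * (n - 1)) (G ⧸ P) := by
        exact pLengthLE_of_quotient_coprime p W (Cfsg.Agent.Helper1.card_pPrimeCore_coprime p) h2
      have h0 : Cfsg.PLengthLE p 1 P := by
        have hPp : IsPGroup p P := Cfsg.Agent.Helper4.pCore_isPGroup
        obtain ⟨m, hm⟩ := IsPGroup.iff_card.1 hPp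
        exact pLengthLE_one_of_card p hm
      have := pLengthLE_add p P h0 h3
      rwa [show 1 + (1 + 2 * (n - 1)) = 2 * n by omega] at this
  · -- remove `O_{p'}(G)`
    have hlt : Nat.card (G ⧸ Cfsg.pPrimeCore p G) < N := by
      rw [← hN, ← Subgroup.index_eq_card, ← Subgroup.card_mul_index (Cfsg.pPrimeCore p G)]
      have h3 : 1 < Nat.card (Cfsg.pPrimeCore p G) := (Subgroup.one_lt_card_iff_ne_bot _).2 hO
      have h4 : 0 < (Cfsg.pPrimeCore p G).index :=
        Nat.pos_of_ne_zero Subgroup.index_ne_zero_of_finite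
      nlinarith
    have h1 : Cfsg.PLengthLE p (2 * n) (G ⧸ Cfsg.pPrimeCore p G) :=
      IH _ hlt (G ⧸ Cfsg.pPrimeCore p G) rfl
        (Cfsg.Agent.Helper4.isPSolvable_quotient hG _) n
        (expLE_of_surjective _ (QuotientGroup.mk'_surjective _) hexp)
    exact pLengthLE_of_quotient_coprime p _ (Cfsg.Agent.Helper1.card_pPrimeCore_coprime p) h1

end Cfsg.Agent.Helper9.RP
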