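import Mathlib
import Cfsg.Agent.Helper9.RP.RPDab
import Cfsg.Agent.Helper9.RP.RPPartA1
import Cfsg.Agent.Helper1.HHD3Ind
import Cfsg.Agent.Helper3.ShHHBabs
import Cfsg.Agent.Helper3.HHAbB

set_option autoImplicit false

/-!
Theorem (R'): `H` `p`-solvable, `p` odd, `O_p(H) = 1`, acting faithfully in characteristic `p` with
all `p`-elements exceptional (`(ρ s - 1) ^ (p ^ n - 1) = 0`).  Then `x ^ p ^ (n - 1) ∈ O_{p',p}(H)`
for every `p`-element `x`.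
-/

namespace Cfsg.Agent.Helper9.RP

open Module

universe u

/-- in characteristic `p`, `(t - 1) ^ p ^ k = t ^ p ^ k - 1` -/
theorem pow_sub_one_eq (K : Type*) [Field K] (p : ℕ) [Fact p.Prime] [CharP K p] (k : ℕ)
    {R : Type*} [Ring R] [Algebra K R] (t : R) : (t - 1) ^ p ^ k = t ^ p ^ k - 1 := by
  have hpoly : ((Polynomial.X : Polynomial K) - 1) ^ p ^ k = Polynomial.X ^ p ^ k - 1 := by
    haveI : CharP (Polynomial K) p := inferInstance
    rw [sub_pow_char_pow, one_pow]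
  have := congrArg (Polynomial.aeval t) hpoly
  simpa using this

/-- an element of a `p`-group lying in a `p'`-group is trivial -/
theorem eq_one_of_pow_of_mem_coprime {H : Type*} [Group H] {p : ℕ} (N : Subgroup H) [Finite N]
    (hN : (Nat.card N).Coprime p) (t : H) (htN : t ∈ N) (k : ℕ) (ht : t ^ p ^ k = 1) : t = 1 := by
  have h1 : orderOf t ∣ p ^ k := orderOf_dvd_of_pow_eq_one ht
  have h2 : orderOf t ∣ Nat.card N := by
    have := orderOf_dvd_natCard (⟨t, htN⟩ : ↥N)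
    rwa [Subgroup.orderOf_mk] at this
  have h3 : orderOf t ∣ Nat.gcd (Nat.card N) (p ^ k) := Nat.dvd_gcd h2 h1
  rw [Nat.Coprime.pow_right k hN] at h3
  exact orderOf_eq_one_iff.1 (Nat.dvd_one.1 h3)

set_option maxHeartbeats 4000000 in
/-- **Theorem (R')** -/
theorem rprime {H : Type u} [Group H] [Finite H] {p : ℕ} [hp : Fact p.Prime] (hp2 : p ≠ 2)
    (hsol : Cfsg.IsPSolvable p H) (hOp : Cfsg.pCore p H = ⊥)
    {F : Type*} {V : Type*} [Field F] [CharP F p] [AddCommGroup V] [Module F V]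
    [FiniteDimensional F V]
    (rho : H →* Module.End F V) (hfaith : ∀ g, rho g = 1 → g = 1) (n : ℕ) (hn : 1 ≤ n)
    (hexc : ∀ s : H, IsPGroup p (Subgroup.zpowers s) → (rho s - 1) ^ (p ^ n - 1) = 0)
    (x : H) (hx : IsPGroup p (Subgroup.zpowers x)) :
    x ^ p ^ (n - 1) ∈ Cfsg.pPrimePCore p H := by
  classical
  by_contra hy
  have hp3 : 3 ≤ p := by
    have := hp.out.two_le
    omega
  obtain ⟨a, ha⟩ : ∃ a, a = p ^ (n - 1) := ⟨_, rfl⟩
  have ha1 : 1 ≤ a := by rw [ha]; exact Nat.one_le_pow _ _ hp.out.pos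
  have hpa : p ^ n = p * a := by
    rw [ha, ← pow_succ', Nat.sub_add_cancel hn]
  rw [← ha] at hy
  -- `p`-elements have order dividing `p ^ n`
  have hpow : ∀ s : H, IsPGroup p (Subgroup.zpowers s) → s ^ p ^ n = 1 := by
    intro s hs
    apply hfaith
    have h1 := hexc s hs
    have h2 : (rho s - 1) ^ p ^ n = 0 := by
      have hpos : 0 < p ^ n := pow_pos hp.out.pos n
      rw [show p ^ n = (p ^ n - 1) + 1 by omega, pow_succ, h1, zero_mul]
    rw [pow_sub_one_eq F p n (rho s), ← map_pow] at h2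
    exact sub_eq_zero.1 h2
  obtain ⟨S, hS⟩ := hx.exists_le_sylow
  have hxS : x ∈ (S : Subgroup H) := hS (Subgroup.mem_zpowers x)
  have hSel : ∀ s ∈ (S : Subgroup H), IsPGroup p (Subgroup.zpowers s) := fun s hs =>
    S.isPGroup'.to_le ((Subgroup.zpowers_le).2 hs)
  -- the `p'`-core
  obtain ⟨N, hN⟩ : ∃ N : Subgroup H, N = Cfsg.pPrimeCore p H := ⟨_, rfl⟩
  have hNn : N.Normal := by rw [hN]; infer_instance
  have hNcop : (Nat.card N).Coprime p := by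
    rw [hN]; exact Cfsg.Agent.Helper1.card_pPrimeCore_coprime p
  have hNp : ¬ p ∣ Nat.card N := by
    intro h
    have := Nat.Coprime.eq_one_of_dvd hNcop.symm h
    exact hp.out.one_lt.ne' this
  have hCN : Subgroup.centralizer (N : Set H) ≤ N := by
    rw [hN]
    exact Cfsg.Agent.Helper1.centralizer_pPrimeCore_le_of_isPSolvable hsol hOp
  -- `K = O_{p',p}(H)`
  obtain ⟨K, hK⟩ : ∃ K : Subgroup H, K = Cfsg.pPrimePCore p H := ⟨_, rfl⟩
  have hKn : K.Normal := by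
    rw [hK]; unfold Cfsg.pPrimePCore
    haveI : (Cfsg.pCore p (H ⧸ Cfsg.pPrimeCore p H)).Normal := Cfsg.Agent.Helper4.pCore_normal
    infer_instance
  rw [← hK] at hy
  obtain ⟨πK, hπK⟩ : ∃ πK : H →* H ⧸ K, πK = QuotientGroup.mk' K := ⟨_, rfl⟩
  have hπK1 : ∀ g, πK g = 1 ↔ g ∈ K := by
    intro g; rw [hπK]; exact QuotientGroup.eq_one_iff g
  obtain ⟨T, hT⟩ : ∃ T : Subgroup H,
      T = (S : Subgroup H) ⊓ (Subgroup.zpowers (πK x)).comap πK := ⟨_, rfl⟩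
  obtain ⟨T0, hT0⟩ : ∃ T0 : Subgroup H, T0 = (S : Subgroup H) ⊓ K := ⟨_, rfl⟩
  have hTmem : ∀ t, t ∈ T ↔ t ∈ (S : Subgroup H) ∧ πK t ∈ Subgroup.zpowers (πK x) := by
    intro t; rw [hT, Subgroup.mem_inf, Subgroup.mem_comap]
  have hT0mem : ∀ t, t ∈ T0 ↔ t ∈ (S : Subgroup H) ∧ t ∈ K := by
    intro t; rw [hT0, Subgroup.mem_inf]
  have hxT : x ∈ T := (hTmem x).2 ⟨hxS, Subgroup.mem_zpowers _⟩
  have hT0T : T0 ≤ T := by
    intro t ht
    rw [hT0mem] at ht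
    rw [hTmem]
    refine ⟨ht.1, ?_⟩
    rw [(hπK1 t).2 ht.2]; exact Subgroup.one_mem _
  have hTp : IsPGroup p T := S.isPGroup'.to_le (by rw [hT]; exact inf_le_left)
  obtain ⟨SS, hSS⟩ : ∃ SS : Set H, SS = {s | ∃ u ∈ T0, s = u * x} := ⟨_, rfl⟩
  have hSSS : ∀ s ∈ SS, s ∈ (S : Subgroup H) := by
    intro s hs
    rw [hSS] at hs
    obtain ⟨u, hu, rfl⟩ := hs
    exact (S : Subgroup H).mul_mem ((hT0mem u).1 hu).1 hxS
  have hcomm := dab hp2 rho N T hTp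
    (by rw [Subgroup.normalizer_eq_top]; exact le_top) hNp (fun g _ => hfaith g)
    (by
      intro t ht hc
      have htN : t ∈ N := by
        apply hCN
        rw [Subgroup.mem_centralizer_iff]
        intro g hg
        exact (hc g hg).symm
      obtain ⟨k, hk⟩ := hTp ⟨t, ht⟩
      have hk' : t ^ p ^ k = 1 := congrArg Subtype.val hk
      exact eq_one_of_pow_of_mem_coprime N hNcop t htN k hk')
    n hn SS
    (by
      intro s hs
      rw [hSS] at hs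
      obtain ⟨u, hu, rfl⟩ := hs
      exact T.mul_mem (hT0T hu) hxT)
    (by
      intro t ht s hs
      rw [hSS] at hs ⊢
      obtain ⟨u, hu, rfl⟩ := hs
      refine ⟨t * (u * x) * t⁻¹ * x⁻¹, ?_, by group⟩
      rw [hT0mem] at hu ⊢
      rw [hTmem] at ht
      refine ⟨?_, ?_⟩
      · exact (S : Subgroup H).mul_mem ((S : Subgroup H).mul_mem ((S : Subgroup H).mul_mem ht.1
          ((S : Subgroup H).mul_mem hu.1 hxS)) ((S : Subgroup H).inv_mem ht.1))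
          ((S : Subgroup H).inv_mem hxS)
      · rw [← hπK1]
        obtain ⟨j, hj⟩ := Subgroup.mem_zpowers_iff.1 ht.2
        rw [map_mul, map_mul, map_mul, map_mul, map_inv, map_inv, (hπK1 u).2 hu.2, ← hj]
        group)
    (fun s hs => hpow s (hSel s (hSSS s hs)))
    (fun s hs => hexc s (hSel s (hSSS s hs)))
  -- the second layer
  have hsolb : Cfsg.IsPSolvable p (H ⧸ N) := Cfsg.Agent.Helper4.isPSolvable_quotient hsol N
  have hOb : Cfsg.pPrimeCore p (H ⧸ N) = ⊥ := by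
    subst hN; exact Cfsg.Agent.Helper4.pPrimeCore_quotient_eq_bot p
  obtain ⟨πN, hπN⟩ : ∃ πN : H →* H ⧸ N, πN = QuotientGroup.mk' N := ⟨_, rfl⟩
  have hπNsurj : Function.Surjective πN := by rw [hπN]; exact QuotientGroup.mk'_surjective _
  obtain ⟨Pb, hPb⟩ : ∃ Pb : Subgroup (H ⧸ N), Pb = Cfsg.pCore p (H ⧸ N) := ⟨_, rfl⟩
  have hKmem : ∀ g, g ∈ K ↔ πN g ∈ Pb := by
    intro g
    subst hN
    rw [hK, hPb, hπN]
    unfold Cfsg.pPrimePCore
    rw [Subgroup.mem_comap]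
  haveI hPn : (Cfsg.pCore p (H ⧸ N)).Normal := Cfsg.Agent.Helper4.pCore_normal
  obtain ⟨W, instW, instM, instF, θ₀, ρ₀, ρb, hθsurj, hequiv, hρb, hfaithb⟩ :=
    Cfsg.Agent.Helper1.HHD3.exists_faithful_frattini_rep hsolb hOb
  haveI : FiniteDimensional (ZMod p) W := Module.Finite.of_finite
  have hsolbb : Cfsg.IsPSolvable p ((H ⧸ N) ⧸ Cfsg.pCore p (H ⧸ N)) :=
    Cfsg.Agent.Helper4.isPSolvable_quotient hsolb _
  have hOpbb : Cfsg.pCore p ((H ⧸ N) ⧸ Cfsg.pCore p (H ⧸ N)) = ⊥ :=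
    Cfsg.Agent.Helper3.HHAb.pCore_quotient_pCore p
  obtain ⟨xb, hxb⟩ : ∃ xb : H ⧸ N, xb = πN x := ⟨_, rfl⟩
  obtain ⟨xbb, hxbb⟩ : ∃ xbb : (H ⧸ N) ⧸ Cfsg.pCore p (H ⧸ N),
      xbb = QuotientGroup.mk' (Cfsg.pCore p (H ⧸ N)) xb := ⟨_, rfl⟩
  have hxpow : x ^ p ^ n = 1 := hpow x hx
  have hxbbpow : xbb ^ p ^ n = 1 := by
    rw [hxbb, hxb, ← map_pow, ← map_pow, hxpow, map_one, map_one]
  have hy1 : xbb ^ p ^ (n - 1) ≠ 1 := by
    intro h
    apply hy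
    rw [hKmem, hPb, map_pow, ← hxb]
    rw [hxbb, ← map_pow, ← ha] at h
    exact (QuotientGroup.eq_one_iff _).1 h
  -- the main computation
  have hs : (ρb xbb - 1) ^ (2 * a - 1) = 0 := by
    have h1 : ρb xbb = ρ₀ xb := by rw [hxbb]; exact hρb xb
    rw [h1]
    apply LinearMap.ext
    intro w
    obtain ⟨ub, hub⟩ := hθsurj (Multiplicative.ofAdd w)
    have hw : w = Multiplicative.toAdd (θ₀ ub) := by rw [hub]; rfl
    -- lift `ub` to `T0`
    obtain ⟨Sb, hSb⟩ : ∃ Sb : Sylow p (H ⧸ N), Sb = S.mapSurjective hπNsurj := ⟨_, rfl⟩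
    have hPbSb : Cfsg.pCore p (H ⧸ N) ≤ (Sb : Subgroup (H ⧸ N)) :=
      Cfsg.Agent.Helper4.pCore_le_sylow Sb
    have hubS : (ub : H ⧸ N) ∈ (Sb : Subgroup (H ⧸ N)) := hPbSb ub.2
    rw [hSb, Sylow.coe_mapSurjective] at hubS
    obtain ⟨u, huS, hu⟩ := hubS
    have huK : u ∈ K := by
      rw [hKmem, hPb, hu]; exact ub.2
    have huT0 : u ∈ T0 := (hT0mem u).2 ⟨huS, huK⟩
    have h1T0 : (1 : H) ∈ T0 := T0.one_mem
    have hc := hcomm (u * x) (by rw [hSS]; exact ⟨u, huT0, rfl⟩) x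
      (by rw [hSS]; exact ⟨1, h1T0, (one_mul x).symm⟩)
    rw [← ha] at hc
    -- `y` centralises `v`
    have hyv : x ^ a * ((u * x) ^ a * (x ^ a)⁻¹) * (x ^ a)⁻¹ = (u * x) ^ a * (x ^ a)⁻¹ := by
      calc x ^ a * ((u * x) ^ a * (x ^ a)⁻¹) * (x ^ a)⁻¹
          = (x ^ a * (u * x) ^ a) * (x ^ a)⁻¹ * (x ^ a)⁻¹ := by group
        _ = ((u * x) ^ a * x ^ a) * (x ^ a)⁻¹ * (x ^ a)⁻¹ := by rw [hc]
        _ = (u * x) ^ a * (x ^ a)⁻¹ := by group
    have hyvb : xb ^ a * (((ub : H ⧸ N) * xb) ^ a * (xb ^ a)⁻¹) * (xb ^ a)⁻¹ =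
        ((ub : H ⧸ N) * xb) ^ a * (xb ^ a)⁻¹ := by
      have := congrArg πN hyv
      simp only [map_mul, map_pow, map_inv] at this
      rw [hu, ← hxb] at this
      exact this
    obtain ⟨hk, hnorm⟩ := frat_norm (Cfsg.pCore p (H ⧸ N)) θ₀ ρ₀ hequiv xb ub a
    have hgs : ∑ d ∈ Finset.range a, ρ₀ xb ^ d = (ρ₀ xb - 1) ^ (a - 1) := by
      rw [ha]; exact Cfsg.Agent.Helper3.HH.geom_sum_eq_pow (ZMod p) p (n - 1) (ρ₀ xb)
    rw [← LinearMap.sum_apply, hgs, ← hw] at hnorm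
    have h2 : 2 * a - 1 = a + (a - 1) := by omega
    rw [h2, pow_add, Module.End.mul_apply, hnorm, LinearMap.zero_apply]
    have h3 : (ρ₀ xb - 1) ^ a = ρ₀ (xb ^ a) - 1 := by
      rw [ha, pow_sub_one_eq (ZMod p) p (n - 1) (ρ₀ xb), map_pow]
    rw [h3, LinearMap.sub_apply, Module.End.one_apply, hequiv, sub_eq_zero]
    congr 2
    apply Subtype.ext
    exact hyvb
  rcases Cfsg.Agent.Helper3.Shult.hh_B_abs p hsolbb hOpbb ρb (fun g _ hg => hfaithb g hg) xbb n hn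
    hxbbpow hy1 (2 * a - 1) hs with
    h | ⟨n₀, q, m, hn₀, hn₀n, -, -, -, -, -, hle⟩
  · have h3a : 3 * a ≤ p * a := Nat.mul_le_mul_right a hp3
    omega
  · obtain ⟨b, hb⟩ : ∃ b, b = p ^ (n - n₀) := ⟨_, rfl⟩
    obtain ⟨c, hc⟩ : ∃ c, c = p ^ n₀ := ⟨_, rfl⟩
    rw [← hb, ← hc] at hle
    have hbc : b * c = p * a := by
      rw [hb, hc, ← pow_add, Nat.sub_add_cancel hn₀n, hpa]
    have hba : b ≤ a := by
      rw [hb, ha]
      exact Nat.pow_le_pow_right hp.out.pos (by omega)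
    have h3a : 3 * a ≤ p * a := Nat.mul_le_mul_right a hp3
    have hmul : b * (c - 1) = b * c - b := Nat.mul_sub_one b c
    omega

end Cfsg.Agent.Helper9.RP
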